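import Mathlib

/-!
# Subsets as vectors over two elements

The overlap pairing of finite sets, the transvection `op a` it defines and colour preserving permutations.
-/

set_option autoImplicit false

namespace CfsgLib.TwoRadGen.Binary

open Finset
open scoped symmDiff

variable {n : ℕ}

/-- The overlap parity. -/
def bp (x y : Finset (Fin n)) : ZMod 2 := ((x ∩ y).card : ZMod 2)

theorem z2 (c : ZMod 2) : c = 0 ∨ c = 1 := by revert c; decide

theorem bp_eq_one {x y : Finset (Fin n)} : bp x y = 1 ↔ Odd (x ∩ y).card :=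
  ZMod.natCast_eq_one_iff_odd

theorem bp_eq_zero {x y : Finset (Fin n)} : bp x y = 0 ↔ Even (x ∩ y).card :=
  ZMod.natCast_eq_zero_iff_even

theorem bp_sum (x y : Finset (Fin n)) :
    bp x y = ∑ i : Fin n, if i ∈ x ∧ i ∈ y then (1 : ZMod 2) else 0 := by
  rw [bp, Finset.sum_boole]
  congr 2
  ext i
  simp

theorem bp_comm (x y : Finset (Fin n)) : bp x y = bp y x := by rw [bp, bp, Finset.inter_comm]

theorem bp_symmDiff (x y z : Finset (Fin n)) : bp (x ∆ y) z = bp x z + bp y z := by
  rw [bp_sum, bp_sum, bp_sum, ← Finset.sum_add_distrib]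
  refine Finset.sum_congr rfl fun i _ => ?_
  by_cases hx : i ∈ x <;> by_cases hy : i ∈ y <;> by_cases hz : i ∈ z <;>
    simp [Finset.mem_symmDiff, hx, hy, hz] <;> decide

theorem bp_symmDiff_right (x y z : Finset (Fin n)) : bp x (y ∆ z) = bp x y + bp x z := by
  rw [bp_comm, bp_symmDiff, bp_comm y, bp_comm z]

theorem bp_self {x : Finset (Fin n)} (h : Even x.card) : bp x x = 0 := by
  rwa [bp_eq_zero, Finset.inter_self]

theorem card_symmDiff (x y : Finset (Fin n)) : (x ∆ y).card + 2 * (x ∩ y).card = x.card + y.card := by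
  have h1 : (x ∆ y).card = (x \ y).card + (y \ x).card := by
    rw [symmDiff_def, Finset.sup_eq_union, Finset.card_union_of_disjoint disjoint_sdiff_sdiff]
  have h2 := Finset.card_sdiff_add_card_inter x y
  have h3 := Finset.card_sdiff_add_card_inter y x
  rw [Finset.inter_comm y x] at h3
  omega

theorem card_symmDiff_inter (x y C : Finset (Fin n)) :
    ((x ∆ y) ∩ C).card + 2 * (x ∩ y ∩ C).card = (x ∩ C).card + (y ∩ C).card := by
  have h := card_symmDiff (x ∩ C) (y ∩ C)
  rwa [show (x ∩ C) ∆ (y ∩ C) = (x ∆ y) ∩ C by ext; simp [Finset.mem_symmDiff]; tauto,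
    show x ∩ C ∩ (y ∩ C) = x ∩ y ∩ C by ext; simp] at h

/-- The transvection of a set. -/
def op (a x : Finset (Fin n)) : Finset (Fin n) := if Odd (a ∩ x).card then a ∆ x else x

theorem op_odd {a x : Finset (Fin n)} (h : Odd (a ∩ x).card) : op a x = a ∆ x := if_pos h

theorem op_even {a x : Finset (Fin n)} (h : Even (a ∩ x).card) : op a x = x :=
  if_neg (Nat.not_odd_iff_even.2 h)

theorem bp_op_left {a x : Finset (Fin n)} (ha : Even a.card) : bp a (op a x) = bp a x := by
  unfold op
  split_ifs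
  · rw [bp_symmDiff_right, bp_self ha, zero_add]
  · rfl

theorem op_op {a : Finset (Fin n)} (ha : Even a.card) (x : Finset (Fin n)) : op a (op a x) = x := by
  by_cases h : Odd (a ∩ x).card
  · rw [op_odd h]
    have h' : Odd (a ∩ a ∆ x).card := by
      rw [← bp_eq_one, bp_symmDiff_right, bp_self ha, zero_add, bp_eq_one]
      exact h
    rw [op_odd h', symmDiff_symmDiff_cancel_left]
  · rw [op_even (Nat.not_odd_iff_even.1 h), op_even (Nat.not_odd_iff_even.1 h)]

theorem bp_op_op {a : Finset (Fin n)} (ha : Even a.card) (x y : Finset (Fin n)) :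
    bp (op a x) (op a y) = bp x y := by
  unfold op
  split_ifs with hx hy hy
  · rw [bp_symmDiff, bp_symmDiff_right, bp_symmDiff_right, bp_self ha, bp_comm x a, bp_eq_one.2 hx,
      bp_eq_one.2 hy]
    generalize bp x y = c
    revert c
    decide
  · rw [bp_symmDiff, bp_eq_zero.2 (Nat.not_odd_iff_even.1 hy), zero_add]
  · rw [bp_symmDiff_right, bp_comm x a, bp_eq_zero.2 (Nat.not_odd_iff_even.1 hx), zero_add]
  · rfl

theorem op_equivariant {a : Finset (Fin n)} (ha : Even a.card) (x y : Finset (Fin n)) :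
    op (op a x) (op a y) = op a (op x y) := by
  by_cases hxy : Odd (x ∩ y).card
  · have h1 : Odd (op a x ∩ op a y).card := by rw [← bp_eq_one, bp_op_op ha, bp_eq_one]; exact hxy
    rw [op_odd hxy, op_odd h1]
    by_cases hx : Odd (a ∩ x).card <;> by_cases hy : Odd (a ∩ y).card
    · rw [op_odd hx, op_odd hy, op_even]
      · rw [symmDiff_symmDiff_symmDiff_comm, symmDiff_self, bot_symmDiff]
      · rw [← bp_eq_zero, bp_symmDiff_right, bp_eq_one.2 hx, bp_eq_one.2 hy]; decide
    · rw [op_odd hx, op_even (Nat.not_odd_iff_even.1 hy), op_odd, symmDiff_assoc]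
      rw [← bp_eq_one, bp_symmDiff_right, bp_eq_one.2 hx, bp_eq_zero.2 (Nat.not_odd_iff_even.1 hy), add_zero]
    · rw [op_even (Nat.not_odd_iff_even.1 hx), op_odd hy, op_odd, symmDiff_left_comm]
      rw [← bp_eq_one, bp_symmDiff_right, bp_eq_one.2 hy, bp_eq_zero.2 (Nat.not_odd_iff_even.1 hx), zero_add]
    · rw [op_even (Nat.not_odd_iff_even.1 hx), op_even (Nat.not_odd_iff_even.1 hy), op_even]
      rw [← bp_eq_zero, bp_symmDiff_right, bp_eq_zero.2 (Nat.not_odd_iff_even.1 hx),
        bp_eq_zero.2 (Nat.not_odd_iff_even.1 hy), add_zero]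
  · have h1 : Even (op a x ∩ op a y).card := by
      rw [← bp_eq_zero, bp_op_op ha, bp_eq_zero]; exact Nat.not_odd_iff_even.1 hxy
    rw [op_even h1, op_even (Nat.not_odd_iff_even.1 hxy)]

theorem pair_inter_odd {i j : Fin n} (hij : i ≠ j) {x : Finset (Fin n)} :
    Odd (({i, j} : Finset (Fin n)) ∩ x).card ↔ ¬ (i ∈ x ↔ j ∈ x) := by
  have e : ∀ y, Odd (({i, j} : Finset (Fin n)) ∩ y).card ↔ bp {i, j} y = 1 := fun y => bp_eq_one.symm
  rw [e, bp_sum, Finset.sum_eq_add i j hij (fun k _ hk => ?_) (by simp) (by simp)]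
  · by_cases hi : i ∈ x <;> by_cases hj : j ∈ x <;> simp [hi, hj]
  · simp [hk.1, hk.2]

theorem op_pair {i j : Fin n} (hij : i ≠ j) (x : Finset (Fin n)) :
    op {i, j} x = x.image (Equiv.swap i j) := by
  ext k
  have hk : k ∈ x.image (Equiv.swap i j) ↔ Equiv.swap i j k ∈ x := by
    simp only [Finset.mem_image]
    exact ⟨by rintro ⟨l, hl, rfl⟩; rwa [Equiv.swap_apply_self],
      fun h => ⟨_, h, Equiv.swap_apply_self _ _ _⟩⟩
  rw [hk, Equiv.swap_apply_def]
  by_cases hodd : Odd (({i, j} : Finset (Fin n)) ∩ x).card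
  · rw [op_odd hodd]
    have := (pair_inter_odd hij).1 hodd
    simp only [Finset.mem_symmDiff, Finset.mem_insert, Finset.mem_singleton]
    split_ifs with h1 h2 <;> subst_vars <;> tauto
  · rw [op_even (Nat.not_odd_iff_even.1 hodd)]
    have := not_not.1 (mt (pair_inter_odd hij).2 hodd)
    split_ifs with h1 h2 <;> subst_vars <;> tauto

/-- Two colours: above the threshold or below it. -/
def SameCol (r : ℕ) (i j : Fin n) : Prop := (r ≤ i.1 ↔ r ≤ j.1)

/-- A property stable under swaps inside the colours is stable under colour preserving permutations. -/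
theorem colPerm_induction {r : ℕ} (P : Equiv.Perm (Fin n) → Prop) (h1 : P 1)
    (hstep : ∀ σ i j, SameCol r i j → i ≠ j → P σ → P (Equiv.swap i j * σ)) (π : Equiv.Perm (Fin n))
    (hπ : ∀ i, SameCol r (π i) i) : P π := by
  induction hk : π.support.card using Nat.strong_induction_on generalizing π with
  | _ k ih =>
    by_cases hp : π = 1
    · exact hp ▸ h1
    obtain ⟨a, ha⟩ : ∃ a, π a ≠ a := by
      by_contra h
      push Not at h
      exact hp (Equiv.ext h)
    have hlt : (Equiv.swap a (π a) * π).support.card < π.support.card :=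
      Equiv.Perm.card_support_swap_mul ha
    have hσ : ∀ i, SameCol r ((Equiv.swap a (π a) * π) i) i := by
      intro i
      rw [Equiv.Perm.mul_apply, Equiv.swap_apply_def]
      split_ifs with h h' 
      · have := hπ i; have := hπ a; simp only [SameCol, h] at *; tauto
      · have := hπ i; have := hπ a; simp only [SameCol, h'] at *; tauto
      · exact hπ i
    have h := hstep _ a (π a) (hπ a).symm (Ne.symm ha) (ih _ (hk ▸ hlt) _ hσ rfl)
    rwa [← mul_assoc, Equiv.swap_mul_self, one_mul] at h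

/-- Points of one colour in both sets. -/
def upp (r : ℕ) (x : Finset (Fin n)) : Finset (Fin n) := x.filter (r ≤ ·.1)

theorem upp_inter (r : ℕ) (x y : Finset (Fin n)) : upp r (x ∩ y) = upp r x ∩ y := by
  ext; simp [upp]; tauto

theorem upp_eq_inter (r : ℕ) (x : Finset (Fin n)) : upp r x = x ∩ Finset.univ.filter (r ≤ ·.1) := by
  ext; simp [upp]

theorem upp_card_le (r : ℕ) (x : Finset (Fin n)) : (upp r x).card ≤ n - r := by
  have h1 : (upp r x).image Fin.val ⊆ Finset.Ico r n := by
    intro k hk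
    obtain ⟨i, hi, rfl⟩ := Finset.mem_image.1 hk
    exact Finset.mem_Ico.2 ⟨(Finset.mem_filter.1 hi).2, i.2⟩
  have h2 := Finset.card_le_card h1
  rwa [Finset.card_image_of_injective _ Fin.val_injective, Nat.card_Ico] at h2

/-- Pairs of sets with equal counts differ by a colour preserving permutation. -/
theorem exists_colPerm (r : ℕ) {t z t' z' : Finset (Fin n)} (h1 : t.card = t'.card) (h2 : z.card = z'.card)
    (h3 : (t ∩ z).card = (t' ∩ z').card) (h4 : (upp r t).card = (upp r t').card)
    (h5 : (upp r z).card = (upp r z').card) (h6 : (upp r (t ∩ z)).card = (upp r (t' ∩ z')).card) :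
    ∃ π : Equiv.Perm (Fin n), (∀ i, SameCol r (π i) i) ∧ t.image π = t' ∧ z.image π = z' := by
  classical
  let f : Fin n → Bool × Bool × Bool := fun i => (decide (r ≤ i.1), decide (i ∈ t), decide (i ∈ z))
  let g : Fin n → Bool × Bool × Bool := fun i => (decide (r ≤ i.1), decide (i ∈ t'), decide (i ∈ z'))
  set C := (Finset.univ : Finset (Fin n)).filter (r ≤ ·.1) with hC
  have key : ∀ l, (Finset.univ.filter fun i => f i = l).card = (Finset.univ.filter fun i => g i = l).card := by
    intro l
    simp only [upp_eq_inter, ← hC] at h4 h5 h6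
    obtain ⟨a, b, c⟩ := l
    have e : ∀ (s u : Finset (Fin n)), (Finset.univ.filter fun i : Fin n =>
        (decide (r ≤ i.1), decide (i ∈ s), decide (i ∈ u)) = (a, b, c)) =
        ((if a then C else Cᶜ) ∩ (if b then s else sᶜ)) ∩ (if c then u else uᶜ) := by
      intro s u
      ext i
      cases a <;> cases b <;> cases c <;> simp [hC]
    show (Finset.univ.filter fun i => f i = (a, b, c)).card = (Finset.univ.filter fun i => g i = (a, b, c)).card
    simp only [f, g]
    rw [e, e]
    have d1 : ∀ A B : Finset (Fin n), (A ∩ Bᶜ).card + (A ∩ B).card = A.card := fun A B => by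
      rw [← Finset.sdiff_eq_inter_compl]; exact Finset.card_sdiff_add_card_inter A B
    have d2 : ∀ A B : Finset (Fin n), (Aᶜ ∩ B).card + (A ∩ B).card = B.card := fun A B => by
      rw [Finset.inter_comm, Finset.inter_comm A B]; exact d1 B A
    have d3 : ∀ A : Finset (Fin n), Aᶜ.card + A.card = n := fun A => by
      rw [Finset.card_compl_add_card, Fintype.card_fin]
    have eC : ∀ s u : Finset (Fin n), (C ∩ s).card = (s ∩ C).card ∧ (C ∩ u).card = (u ∩ C).card ∧
        (C ∩ s ∩ u).card = (s ∩ u ∩ C).card := fun s u =>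
      ⟨by rw [Finset.inter_comm], by rw [Finset.inter_comm],
        congrArg Finset.card (by ext; simp; tauto)⟩
    obtain ⟨a1, a2, a3⟩ := eC t z
    obtain ⟨b1, b2, b3⟩ := eC t' z'
    have := d1 (C ∩ t) z; have := d1 (C ∩ t') z'
    have := d1 (C ∩ tᶜ) z; have := d1 (C ∩ t'ᶜ) z'
    have := d1 (Cᶜ ∩ t) z; have := d1 (Cᶜ ∩ t') z'
    have := d1 (Cᶜ ∩ tᶜ) z; have := d1 (Cᶜ ∩ t'ᶜ) z'
    have := d1 C t; have := d1 C t'
    have := d2 C t; have := d2 C t'
    have := d1 Cᶜ t; have := d1 Cᶜ t'
    have := d3 C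
    have p1 : ∀ s u : Finset (Fin n), (C ∩ sᶜ ∩ u).card + (C ∩ s ∩ u).card = (C ∩ u).card := fun s u => by
      rw [← d1 (C ∩ u) s]
      congr 2 <;> (ext; simp; tauto)
    have p2 : ∀ s u : Finset (Fin n), (Cᶜ ∩ s ∩ u).card + (C ∩ s ∩ u).card = (s ∩ u).card := fun s u => by
      rw [Finset.inter_assoc, Finset.inter_assoc]; exact d2 C (s ∩ u)
    have p3 : ∀ s u : Finset (Fin n), (Cᶜ ∩ sᶜ ∩ u).card + (Cᶜ ∩ s ∩ u).card + (C ∩ u).card = u.card :=
      fun s u => by
      rw [← d2 C u, ← d1 (Cᶜ ∩ u) s]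
      congr 3 <;> (ext; simp; tauto)
    have := p1 t z; have := p1 t' z'; have := p2 t z; have := p2 t' z'; have := p3 t z; have := p3 t' z'
    cases a <;> cases b <;> cases c <;> simp only [if_true, Bool.false_eq_true, if_false] <;> omega
  have hfib : ∀ l, {i // f i = l} ≃ {i // g i = l} := fun l => Fintype.equivOfCardEq (by
    rw [Fintype.card_subtype, Fintype.card_subtype]; exact key l)
  let π : Equiv.Perm (Fin n) := Equiv.ofFiberEquiv hfib
  have hπ : ∀ i, g (π i) = f i := fun i => Equiv.ofFiberEquiv_map hfib i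
  refine ⟨π, fun i => ?_, ?_, ?_⟩
  · have := congrArg (fun p => p.1) (hπ i)
    simpa [f, g, SameCol] using this
  · ext j
    obtain ⟨i, rfl⟩ := π.surjective j
    have := congrArg (fun p => p.2.1) (hπ i)
    simp only [f, g, decide_eq_decide] at this
    simp [this]
  · ext j
    obtain ⟨i, rfl⟩ := π.surjective j
    have := congrArg (fun p => p.2.2) (hπ i)
    simp only [f, g, decide_eq_decide] at this
    simp [this]

end CfsgLib.TwoRadGen.Binary
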