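import Mathlib
import Cfsg.Agent.Lib.TwoRadGen.Binary.Parity

/-!
# Fibres over sets of points and closed selections of their members; the star of duads
-/

set_option autoImplicit false

namespace CfsgLib.TwoRadGen.Binary

open Finset
open scoped symmDiff

universe u

variable {n : ℕ} {P : Finset (Fin n) → Prop} {G : Type u} [Group G]

/-- Involutions fibred over points, multiplied by the transvection rule. -/
structure Fibres (G : Type u) [Group G] (P : Finset (Fin n) → Prop) where
  F : Finset (Fin n) → Set G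
  ne : ∀ x, P x → (F x).Nonempty
  sq : ∀ x, P x → ∀ a ∈ F x, a * a = 1
  mul : ∀ x y, P x → P y → ∀ a ∈ F x, ∀ b ∈ F y, a * b * a ∈ F (op x y)
  comm : ∀ x y, P x → P y → Even (x ∩ y).card → ∀ a ∈ F x, ∀ b ∈ F y, Commute a b
  braid : ∀ x y, P x → P y → Odd (x ∩ y).card → ∀ a ∈ F x, ∀ b ∈ F y, a * b * a = b * a * b
  even : ∀ x, P x → Even x.card
  closed : ∀ x y, P x → P y → P (op x y)

namespace Fibres

variable (S : Fibres G P)

/-- A choice of one member in every fibre. -/
def Sel (σ : Finset (Fin n) → G) : Prop := ∀ x, P x → σ x ∈ S.F x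

/-- The selection is closed at a pair. -/
def Good (σ : Finset (Fin n) → G) (x y : Finset (Fin n)) : Prop := σ x * σ y * σ x = σ (op x y)

/-- The selection is closed at all pairs through a point. -/
def GoodAll (σ : Finset (Fin n) → G) (x : Finset (Fin n)) : Prop := P x ∧ ∀ y, P y → Good σ x y

variable {S} {σ : Finset (Fin n) → G} (hσ : S.Sel σ)
include hσ

theorem good_of_even {x y : Finset (Fin n)} (hx : P x) (hy : P y) (h : Even (x ∩ y).card) : Good σ x y := by
  unfold Good
  rw [op_even h, (S.comm x y hx hy h _ (hσ x hx) _ (hσ y hy)).eq, mul_assoc, S.sq x hx _ (hσ x hx), mul_one]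

theorem symm {x y : Finset (Fin n)} (hx : P x) (hy : P y) (h : Good σ x y) : Good σ y x := by
  by_cases ho : Odd (x ∩ y).card
  · have ho' : Odd (y ∩ x).card := by rwa [Finset.inter_comm]
    unfold Good at *
    rw [op_odd ho] at h
    rw [op_odd ho', symmDiff_comm, ← S.braid x y hx hy ho _ (hσ x hx) _ (hσ y hy), h]
  · exact good_of_even hσ hy hx (by rw [Finset.inter_comm]; exact Nat.not_odd_iff_even.1 ho)

theorem line {x y : Finset (Fin n)} (hx : P x) (h : Good σ x y) : Good σ x (op x y) := by
  unfold Good at *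
  rw [op_op (S.even x hx), ← h]
  have hs := S.sq x hx _ (hσ x hx)
  calc σ x * (σ x * σ y * σ x) * σ x = (σ x * σ x) * σ y * (σ x * σ x) := by simp only [mul_assoc]
    _ = σ y := by rw [hs, one_mul, mul_one]

theorem map_iff {t x y : Finset (Fin n)} (ht : P t) (h1 : Good σ t x) (h2 : Good σ t y)
    (h3 : Good σ t (op x y)) : Good σ x y ↔ Good σ (op t x) (op t y) := by
  unfold Good at *
  have hs := S.sq t ht _ (hσ t ht)
  rw [op_equivariant (S.even t ht), ← h1, ← h2, ← h3]
  constructor
  · intro h
    rw [← h]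
    simp only [mul_assoc]
    congr 2
    rw [← mul_assoc (σ t) (σ t), hs, one_mul]
    congr 1
    rw [← mul_assoc (σ t) (σ t), hs, one_mul]
  · intro h
    have h' := congrArg (fun g => σ t * g * σ t) h
    simp only [mul_assoc] at h' ⊢
    simp only [← mul_assoc (σ t) (σ t), hs, one_mul, mul_one] at h'
    exact h'

theorem goodAll_op {t x : Finset (Fin n)} (ht : GoodAll (P := P) σ t) (hx : GoodAll (P := P) σ x) :
    GoodAll (P := P) σ (op t x) := by
  refine ⟨S.closed t x ht.1 hx.1, fun y hy => ?_⟩
  have hy' := S.closed t y ht.1 hy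
  have h := (map_iff hσ ht.1 (ht.2 x hx.1) (ht.2 _ hy') (ht.2 _ (S.closed x _ hx.1 hy'))).1 (hx.2 _ hy')
  rwa [op_op (S.even t ht.1)] at h

/-- Goodness is carried along colour preserving permutations once all duads are good. -/
theorem good_image {r : ℕ} (hd : ∀ i j : Fin n, SameCol r i j → i ≠ j → GoodAll (P := P) σ {i, j})
    (π : Equiv.Perm (Fin n)) (hπ : ∀ i, SameCol r (π i) i) {x y : Finset (Fin n)} (hx : P x) (hy : P y)
    (h : Good σ x y) : Good σ (x.image π) (y.image π) := by
  refine (colPerm_induction (fun π => P (x.image π) ∧ P (y.image π) ∧ Good σ (x.image π) (y.image π))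
    ⟨by simpa using hx, by simpa using hy, by simpa using h⟩ ?_ π hπ).2.2
  rintro π i j hc hij ⟨h1, h2, h3⟩
  obtain ⟨hp, hg⟩ := hd i j hc hij
  have e : ∀ z : Finset (Fin n), z.image (Equiv.swap i j * π) = op {i, j} (z.image π) := fun z => by
    rw [op_pair hij, Finset.image_image]; rfl
  rw [e, e]
  exact ⟨S.closed _ _ hp h1, S.closed _ _ hp h2,
    (map_iff hσ hp (hg _ h1) (hg _ h2) (hg _ (S.closed _ _ h1 h2))).1 h3⟩

omit hσ

/-- The first point of a colour. -/
def base (r : ℕ) (i : Fin n) : Fin n :=
  if h : r ≤ i.1 then ⟨r, h.trans_lt i.2⟩ else ⟨0, Nat.zero_lt_of_lt i.2⟩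

theorem base_col (r : ℕ) (i : Fin n) : SameCol r (base r i) i := by
  unfold base SameCol
  split_ifs with h
  · simp [h]
  · simp only [not_le] at h
    exact ⟨fun k => absurd (show r ≤ 0 from k) (by omega), fun k => absurd k (by omega)⟩

theorem base_le (r : ℕ) (i : Fin n) : base r i ≤ i := by
  unfold base
  split_ifs with h
  · exact h
  · exact Nat.zero_le _

theorem base_congr {r : ℕ} {i j : Fin n} (h : SameCol r i j) : base r i = base r j := by
  unfold base
  by_cases hi : r ≤ i.1
  · rw [dif_pos hi, dif_pos (h.1 hi)]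
  · rw [dif_neg hi, dif_neg fun k => hi (h.2 k)]

/-- The selection is a star at the duads. -/
def IsStar (r : ℕ) (σ : Finset (Fin n) → G) : Prop :=
  ∀ i j : Fin n, SameCol r i j → i < j → base r i < i →
    σ {base r i, i} * σ {base r i, j} * σ {base r i, i} = σ {i, j}

theorem op_pair_pair {a b c : Fin n} (hab : a ≠ b) (hac : a ≠ c) (hbc : b ≠ c) :
    op {a, b} ({a, c} : Finset (Fin n)) = {b, c} := by
  rw [op_pair hab]
  simp [Finset.image_insert, Equiv.swap_apply_of_ne_of_ne hac.symm hbc.symm]

theorem inter_pair_pair {a b c : Fin n} (hab : a ≠ b) (hac : a ≠ c) (hbc : b ≠ c) :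
    Odd (({a, b} : Finset (Fin n)) ∩ {a, c}).card := by
  rw [pair_inter_odd hab]
  simp [hab.symm, hac, hbc]

include hσ

/-- A star is closed at the pairs of duads. -/
theorem duads_good {r : ℕ} (hP : ∀ i j : Fin n, SameCol r i j → i ≠ j → P {i, j}) (hst : IsStar r σ)
    {i j k : Fin n} (hij : SameCol r i j) (hik : SameCol r i k) (h1 : i ≠ j) (h2 : i ≠ k) (h3 : j ≠ k) :
    Good σ {i, j} {i, k} := by
  have star : ∀ i j : Fin n, SameCol r i j → i ≠ j → base r i ≠ i → base r i ≠ j →
      Good σ {base r i, i} {base r i, j} := by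
    intro i j hc hne hbi hbj
    rcases lt_or_gt_of_ne hne with hlt | hlt
    · unfold Good
      rw [op_pair_pair hbi hbj hne]
      exact hst i j hc hlt (lt_of_le_of_ne (base_le r i) hbi)
    · refine symm hσ (hP _ _ ?_ hbj) (hP _ _ (base_col r i) hbi) ?_
      · exact (base_col r i).trans hc
      have hb := base_congr hc
      unfold Good
      rw [hb] at hbi hbj ⊢
      rw [op_pair_pair hbj hbi hne.symm]
      exact hst j i hc.symm hlt (lt_of_le_of_ne (base_le r j) hbj)
  set b := base r i with hb
  have hbc : ∀ l, SameCol r i l → SameCol r b l ∧ base r l = b := fun l hl =>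
    ⟨(base_col r i).trans hl, (base_congr hl).symm⟩
  obtain ⟨cj, bj⟩ := hbc j hij
  obtain ⟨ck, bk⟩ := hbc k hik
  have hPij := hP _ _ hij h1
  have hPik := hP _ _ hik h2
  by_cases hbi : b = i
  · have h := star j k (hij.symm.trans hik) h3 (by rw [bj, hbi]; exact h1) (by rw [bj, hbi]; exact h2)
    rwa [bj, hbi] at h
  by_cases hbj : b = j
  · have h := star i k hik h2 hbi (by rw [← hb, hbj]; exact h3)
    have h' := line hσ (hP _ _ (base_col r i) hbi) h
    rw [← hb, hbj, op_pair_pair h1.symm h3 h2, Finset.pair_comm j i] at h'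
    exact h'
  by_cases hbk : b = k
  · have h := star i j hij h1 hbi hbj
    have h' := line hσ (hP _ _ (base_col r i) hbi) h
    rw [← hb, hbk, op_pair_pair h2.symm h3.symm h1, Finset.pair_comm k i] at h'
    exact symm hσ hPik hPij h'
  have g1 := star j i hij.symm h1.symm (by rw [bj]; exact hbj) (by rw [bj]; exact hbi)
  have g2 := star i k hik h2 hbi hbk
  have g3 := star j k (hij.symm.trans hik) h3 (by rw [bj]; exact hbj) (by rw [bj]; exact hbk)
  rw [bj] at g1 g3
  rw [← hb] at g2
  have hPbj := hP _ _ cj hbj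
  have hPbk := hP _ _ ck hbk
  have hPbi := hP _ _ (base_col r i) hbi
  have ev : Even (({b, j} : Finset (Fin n)) ∩ {i, k}).card := by
    rw [← Nat.not_odd_iff_even, pair_inter_odd hbj]
    simp [hbi, hbk, h1.symm, h3]
  have q1 : Good σ {b, j} {i, j} := by
    have := line hσ hPbj g1
    rwa [op_pair_pair hbj hbi h1.symm, Finset.pair_comm j i] at this
  have q2 : Good σ {b, j} {i, k} := good_of_even hσ hPbj hPik ev
  have q3 : Good σ {b, j} (op {i, j} {i, k}) := by
    rw [op_pair_pair h1 h2 h3]
    have := line hσ hPbj g3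
    rwa [op_pair_pair hbj hbk h3] at this
  refine (map_iff hσ hPbj q1 q2 q3).2 ?_
  rw [op_even ev, op_pair hbj, Finset.image_insert, Finset.image_singleton,
    Equiv.swap_apply_of_ne_of_ne (Ne.symm hbi) h1, Equiv.swap_apply_right, Finset.pair_comm i b]
  have := line hσ hPbi g2
  rwa [op_pair_pair hbi hbk h2] at this

/-- A star is closed at all pairs of duads. -/
theorem duad_duad {r : ℕ} (hP : ∀ i j : Fin n, SameCol r i j → i ≠ j → P {i, j}) (hst : IsStar r σ)
    {i j k l : Fin n} (hij : SameCol r i j) (hkl : SameCol r k l) (h1 : i ≠ j) (h2 : k ≠ l) :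
    Good σ {i, j} {k, l} := by
  by_cases he : Even (({i, j} : Finset (Fin n)) ∩ {k, l}).card
  · exact good_of_even hσ (hP _ _ hij h1) (hP _ _ hkl h2) he
  rw [Nat.not_even_iff_odd, pair_inter_odd h1] at he
  simp only [Finset.mem_insert, Finset.mem_singleton] at he
  by_cases hi : i = k ∨ i = l
  · have hj : ¬ (j = k ∨ j = l) := fun h => he ⟨fun _ => h, fun _ => hi⟩
    push Not at hj
    rcases hi with rfl | rfl
    · exact duads_good hσ hP hst hij hkl h1 h2 hj.2
    · rw [Finset.pair_comm k i]
      exact duads_good hσ hP hst hij hkl.symm h1 h2.symm hj.1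
  · have hj : j = k ∨ j = l := by
      by_contra h
      exact he ⟨fun a => absurd a hi, fun a => absurd a h⟩
    push Not at hi
    rw [Finset.pair_comm i j]
    rcases hj with rfl | rfl
    · exact duads_good hσ hP hst hij.symm hkl h1.symm h2 hi.2
    · rw [Finset.pair_comm k j]
      exact duads_good hσ hP hst hij.symm hkl.symm h1.symm h2.symm hi.1

/-- Adjacent duads give all duads of one colour. -/
theorem goodAll_duads {r : ℕ}
    (hadj : ∀ i j : Fin n, SameCol r i j → i.1 + 1 = j.1 → GoodAll (P := P) σ {i, j}) :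
    ∀ i j : Fin n, SameCol r i j → i ≠ j → GoodAll (P := P) σ {i, j} := by
  have key : ∀ d : ℕ, ∀ i j : Fin n, SameCol r i j → i.1 + (d + 1) = j.1 → GoodAll (P := P) σ {i, j} := by
    intro d
    induction d with
    | zero => exact fun i j h e => hadj i j h (by omega)
    | succ d ih =>
      intro i j h e
      let k : Fin n := ⟨j.1 - 1, by omega⟩
      have hik : SameCol r i k := by
        simp only [SameCol, k] at *
        omega
      have hkj : SameCol r k j := hik.symm.trans h
      have h1 := goodAll_op hσ (hadj k j hkj (by simp [k]; omega)) (ih i k hik (by simp [k]; omega))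
      have ne1 : k ≠ j := Fin.ne_of_val_ne (by simp [k]; omega)
      have ne2 : k ≠ i := Fin.ne_of_val_ne (by simp [k]; omega)
      have ne3 : j ≠ i := Fin.ne_of_val_ne (by omega)
      rw [Finset.pair_comm i k, op_pair_pair ne1 ne2 ne3, Finset.pair_comm j i] at h1
      exact h1
  intro i j h hne
  rcases lt_or_gt_of_ne (Fin.val_ne_of_ne hne) with hlt | hlt
  · exact key (j.1 - i.1 - 1) i j h (by omega)
  · rw [Finset.pair_comm]
    exact key (i.1 - j.1 - 1) j i h.symm (by omega)

omit hσ

/-- A member of a fibre. -/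
noncomputable def pick (S : Fibres G P) (x : Finset (Fin n)) : G := Classical.epsilon fun a => a ∈ S.F x

theorem pick_mem (S : Fibres G P) {x : Finset (Fin n)} (h : P x) : S.pick x ∈ S.F x :=
  Classical.epsilon_spec (S.ne x h)

/-- The star selection on duads. -/
noncomputable def duadSel (S : Fibres G P) (r : ℕ) (x : Finset (Fin n)) : G :=
  if h : x.Nonempty then
    if base r (x.min' h) = x.min' h then S.pick x
    else S.pick {base r (x.min' h), x.min' h} * S.pick {base r (x.min' h), x.max' h} *
      S.pick {base r (x.min' h), x.min' h}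
  else S.pick x

theorem duadSel_pair (S : Fibres G P) (r : ℕ) {i j : Fin n} (hlt : i < j) :
    S.duadSel r {i, j} = if base r i = i then S.pick {i, j}
      else S.pick {base r i, i} * S.pick {base r i, j} * S.pick {base r i, i} := by
  have hne : ({i, j} : Finset (Fin n)).Nonempty := ⟨i, by simp⟩
  have hmin : ({i, j} : Finset (Fin n)).min' hne = i :=
    le_antisymm (Finset.min'_le _ i (by simp)) (Finset.le_min' _ _ _ fun y hy => by
      simp at hy; rcases hy with rfl | rfl <;> [exact le_rfl; exact hlt.le])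
  have hmax : ({i, j} : Finset (Fin n)).max' hne = j :=
    le_antisymm (Finset.max'_le _ _ _ fun y hy => by
      simp at hy; rcases hy with rfl | rfl <;> [exact hlt.le; exact le_rfl]) (Finset.le_max' _ j (by simp))
  rw [duadSel, dif_pos hne, hmin, hmax]

theorem duadSel_star (S : Fibres G P) {r : ℕ} : IsStar r (S.duadSel r) := by
  intro i j hc hlt hb
  have hbj : base r i < j := hb.trans hlt
  have e0 : base r (base r i) = base r i := base_congr (base_col r i)
  rw [duadSel_pair S r hb, duadSel_pair S r hbj, duadSel_pair S r hlt, if_pos e0, if_pos e0, if_neg hb.ne]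

theorem duadSel_mem (S : Fibres G P) {r : ℕ} (hP : ∀ i j : Fin n, SameCol r i j → i ≠ j → P {i, j})
    {i j : Fin n} (hc : SameCol r i j) (hlt : i < j) : S.duadSel r {i, j} ∈ S.F {i, j} := by
  rw [duadSel_pair S r hlt]
  split_ifs with h
  · exact S.pick_mem (hP i j hc hlt.ne)
  · have h1 := hP _ _ (base_col r i) h
    have hbj : base r i ≠ j := ((base_le r i).trans_lt hlt).ne
    have h2 := hP _ _ ((base_col r i).trans hc) hbj
    have := S.mul _ _ h1 h2 _ (S.pick_mem h1) _ (S.pick_mem h2)
    rwa [op_pair_pair h hbj hlt.ne] at this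

/-- Transpositions alone: a closed selection. -/
theorem exists_sym (S : Fibres G P) (hP : ∀ x, P x ↔ x.card = 2) :
    ∃ σ, S.Sel σ ∧ ∀ x, P x → ∀ y, P y → Good σ x y := by
  have hP2 : ∀ i j : Fin n, SameCol n i j → i ≠ j → P {i, j} := fun i j _ h =>
    (hP _).2 (Finset.card_pair h)
  have hcol : ∀ i j : Fin n, SameCol n i j := fun i j => by
    have := i.2; have := j.2; simp only [SameCol]; omega
  have hσ : S.Sel (S.duadSel n) := fun x hx => by
    obtain ⟨i, j, hne, rfl⟩ := Finset.card_eq_two.1 ((hP x).1 hx)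
    rcases lt_or_gt_of_ne hne with h | h
    · exact duadSel_mem S hP2 (hcol _ _) h
    · rw [Finset.pair_comm]; exact duadSel_mem S hP2 (hcol _ _) h
  refine ⟨_, hσ, fun x hx y hy => ?_⟩
  obtain ⟨i, j, hne, rfl⟩ := Finset.card_eq_two.1 ((hP x).1 hx)
  obtain ⟨k, l, hne', rfl⟩ := Finset.card_eq_two.1 ((hP y).1 hy)
  exact duad_duad hσ hP2 (duadSel_star S) (hcol _ _) (hcol _ _) hne hne'

end Fibres

end CfsgLib.TwoRadGen.Binary
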