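import Mathlib
import Cfsg.Agent.Lib.TwoRadGen.Binary.Parity

/-!
# The points of the subset model: counts, the rank and the generating four-element points
-/

set_option autoImplicit false
set_option linter.unusedSectionVars false

namespace CfsgLib.TwoRadGen.Binary

open Finset
open scoped symmDiff

variable {n : ℕ}

/-- The part below the threshold. -/
def low (r : ℕ) (x : Finset (Fin n)) : Finset (Fin n) := x.filter (·.1 < r)

/-- Non-empty even sets, of non-singular value unless there is one colour only. -/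
def Pt (n r : ℕ) (x : Finset (Fin n)) : Prop :=
  x.Nonempty ∧ Even x.card ∧ (r = n ∨ Odd (x.card / 2 + (upp r x).card))

theorem mem_upp {r : ℕ} {x : Finset (Fin n)} {i : Fin n} : i ∈ upp r x ↔ i ∈ x ∧ r ≤ i.1 := by simp [upp]

theorem mem_low {r : ℕ} {x : Finset (Fin n)} {i : Fin n} : i ∈ low r x ↔ i ∈ x ∧ i.1 < r := by simp [low]

theorem card_low_add_upp (r : ℕ) (x : Finset (Fin n)) : (low r x).card + (upp r x).card = x.card := by
  have h := Finset.card_filter_add_card_filter_not (s := x) (fun i => i.1 < r)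
  simpa [low, upp, not_lt] using h

theorem card_low_univ {r : ℕ} (hr : r ≤ n) : (low r (Finset.univ : Finset (Fin n))).card = r := by
  have h : (low r (Finset.univ : Finset (Fin n))).image Fin.val = Finset.range r := by
    ext k
    simp only [Finset.mem_image, mem_low, Finset.mem_univ, true_and, Finset.mem_range]
    exact ⟨fun ⟨i, hi, e⟩ => e ▸ hi, fun hk => ⟨⟨k, hk.trans_le hr⟩, hk, rfl⟩⟩
  conv_rhs => rw [← Finset.card_range r, ← h, Finset.card_image_of_injective _ Fin.val_injective]

theorem card_upp_univ {r : ℕ} (hr : r ≤ n) : (upp r (Finset.univ : Finset (Fin n))).card = n - r := by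
  have h := card_low_add_upp r (Finset.univ : Finset (Fin n))
  rw [card_low_univ hr, Finset.card_univ, Fintype.card_fin] at h
  omega

theorem upp_mono {r : ℕ} {x y : Finset (Fin n)} (h : x ⊆ y) : upp r x ⊆ upp r y :=
  Finset.filter_subset_filter _ h

theorem upp_le (r : ℕ) (x : Finset (Fin n)) : (upp r x).card ≤ x.card := Finset.card_filter_le _ _

theorem card_upp_symmDiff (r : ℕ) (x y : Finset (Fin n)) :
    (upp r (x ∆ y)).card + 2 * (upp r (x ∩ y)).card = (upp r x).card + (upp r y).card := by
  simp only [upp_eq_inter]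
  exact card_symmDiff_inter x y _

theorem pt_congr {r : ℕ} {x y : Finset (Fin n)} (h1 : x.card = y.card) (h2 : (upp r x).card = (upp r y).card)
    (h : Pt n r x) : Pt n r y :=
  ⟨Finset.card_pos.1 (h1 ▸ Finset.card_pos.2 h.1), h1 ▸ h.2.1, h.2.2.imp id (fun k => by rwa [← h1, ← h2])⟩

theorem pt_op {r : ℕ} {x y : Finset (Fin n)} (hx : Pt n r x) (hy : Pt n r y) : Pt n r (op x y) := by
  by_cases ho : Odd (x ∩ y).card
  swap
  · rw [op_even (Nat.not_odd_iff_even.1 ho)]; exact hy
  rw [op_odd ho]
  have hc := card_symmDiff x y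
  have he1 := Nat.even_iff.1 hx.2.1
  have he2 := Nat.even_iff.1 hy.2.1
  refine ⟨?_, Nat.even_iff.2 (by omega), ?_⟩
  · rw [Finset.nonempty_iff_ne_empty, Ne, ← Finset.bot_eq_empty, symmDiff_eq_bot]
    rintro rfl
    rw [Finset.inter_self] at ho
    exact Nat.not_even_iff_odd.2 ho hx.2.1
  · rcases hx.2.2 with h | h1
    · exact Or.inl h
    rcases hy.2.2 with h | h2
    · exact Or.inl h
    right
    have hu := card_upp_symmDiff r x y
    rw [Nat.odd_iff] at *
    omega

/-- The sum of the labels. -/
def wt (x : Finset (Fin n)) : ℕ := ∑ i ∈ x, i.1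

theorem wt_le (x : Finset (Fin n)) : wt x ≤ n * n := by
  refine (Finset.sum_le_card_nsmul x _ n fun i _ => i.2.le).trans ?_
  rw [smul_eq_mul]
  exact Nat.mul_le_mul_right n (x.card_le_univ.trans (by simp))

/-- A four-element point with all upper points is placed above six-element points. -/
def rk (r : ℕ) (x : Finset (Fin n)) : ℕ := if x.card = 4 ∧ (upp r x).card = 3 then 7 else x.card

/-- The rank of a set. -/
def N (r : ℕ) (x : Finset (Fin n)) : ℕ := rk r x * (n * n + 1) + wt x

theorem N_lt_of_rk {r : ℕ} {x y : Finset (Fin n)} (h : rk r x < rk r y) : N r x < N r y := by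
  have h1 := wt_le x
  have h2 : (rk r x + 1) * (n * n + 1) ≤ rk r y * (n * n + 1) := Nat.mul_le_mul_right _ h
  unfold N
  rw [add_mul, one_mul] at h2
  omega

/-- A lowering adjacent pair. -/
def Lower (r : ℕ) (x : Finset (Fin n)) (i j : Fin n) : Prop :=
  SameCol r i j ∧ i.1 + 1 = j.1 ∧ i ∉ x ∧ j ∈ x

namespace Lower

variable {r : ℕ} {x : Finset (Fin n)} {i j : Fin n} (h : Lower r x i j)
include h

theorem ne : i ≠ j := fun e => h.2.2.1 (e ▸ h.2.2.2)

theorem op_eq : op {i, j} x = insert i (x.erase j) := by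
  rw [op_pair h.ne]
  ext k
  obtain ⟨-, -, hi, hj⟩ := h
  simp only [Finset.mem_image, Finset.mem_insert, Finset.mem_erase]
  constructor
  · rintro ⟨l, hl, rfl⟩
    by_cases hlj : l = j
    · left; rw [hlj, Equiv.swap_apply_right]
    · right
      rw [Equiv.swap_apply_of_ne_of_ne (fun e => hi (by rwa [e] at hl)) hlj]
      exact ⟨hlj, hl⟩
  · rintro (rfl | ⟨hk, hkx⟩)
    · exact ⟨j, hj, Equiv.swap_apply_right _ _⟩
    · exact ⟨k, hkx, Equiv.swap_apply_of_ne_of_ne (fun e => hi (by rwa [e] at hkx)) hk⟩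

theorem card_op : (op {i, j} x).card = x.card := by
  rw [op_pair h.ne, Finset.card_image_of_injective _ (Equiv.injective _)]

theorem upp_op : (upp r (op {i, j} x)).card = (upp r x).card := by
  have hc := h.1
  have : upp r (op {i, j} x) = (upp r x).image (Equiv.swap i j) := by
    rw [op_pair h.ne]
    ext k
    simp only [mem_upp, Finset.mem_image]
    constructor
    · rintro ⟨⟨l, hl, rfl⟩, hr⟩
      refine ⟨l, ⟨hl, ?_⟩, rfl⟩
      rw [Equiv.swap_apply_def] at hr
      split_ifs at hr with h1 h2
      · rw [h1]; exact hc.2 hr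
      · rw [h2]; exact hc.1 hr
      · exact hr
    · rintro ⟨l, ⟨hl, hr⟩, rfl⟩
      refine ⟨⟨l, hl, rfl⟩, ?_⟩
      rw [Equiv.swap_apply_def]
      split_ifs with h1 h2
      · rw [h1] at hr; exact hc.1 hr
      · rw [h2] at hr; exact hc.2 hr
      · exact hr
  rw [this, Finset.card_image_of_injective _ (Equiv.injective _)]

theorem wt_op : wt (op {i, j} x) < wt x := by
  rw [h.op_eq]
  obtain ⟨-, hij, hi, hj⟩ := h
  have e1 : (insert i (x.erase j)).sum (fun k => k.1) = i.1 + (x.erase j).sum (fun k => k.1) :=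
    Finset.sum_insert (fun k => hi (Finset.mem_of_mem_erase k))
  have e2 := Finset.add_sum_erase x (fun k : Fin n => k.1) hj
  show (insert i (x.erase j)).sum (fun k => k.1) < x.sum (fun k => k.1)
  omega

theorem N_op : N r (op {i, j} x) < N r x := by
  have hw := h.wt_op
  unfold N rk
  rw [h.card_op, h.upp_op]
  omega

end Lower

/-- The standing numerical hypotheses. -/
structure Dims (n r : ℕ) : Prop where
  odd : Odd n
  seven : 7 ≤ n
  le : r ≤ n
  three : n ≤ r + 3

/-- A four-element point with at most one upper point. -/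
def IsT (r : ℕ) (t : Finset (Fin n)) : Prop := Pt n r t ∧ t.card = 4 ∧ (upp r t).card ≤ 1

/-- A parent with an upper point to be removed exists. -/
def HasA (r : ℕ) (z : Finset (Fin n)) : Prop := 1 ≤ (upp r z).card ∧ z.card < r + (upp r z).card

/-- The generating points used for the seeds. -/
def SeedT (r : ℕ) (z t : Finset (Fin n)) : Prop :=
  IsT r t ∧ (t ∩ z).card = 3 ∧ (HasA r z → (upp r (t ∩ z)).card = 1) ∧
    (¬ HasA r z → (upp r (t ∩ z)).card = 0)

/-- The generating points used at the four-element points with three upper points. -/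
def ExcT (r : ℕ) (x t : Finset (Fin n)) : Prop :=
  IsT r t ∧ (t ∩ x).card = 1 ∧ (upp r (t ∩ x)).card = 1

namespace Dims

variable {r : ℕ} (hd : Dims n r)
include hd

theorem four_le : 4 ≤ r := by have := hd.seven; have := hd.three; omega

theorem upp_le_three (x : Finset (Fin n)) : (upp r x).card ≤ 3 := by
  have := upp_card_le r x; have := hd.three; omega

theorem card_lt {x : Finset (Fin n)} (hx : Pt n r x) : x.card < n := by
  have h1 := x.card_le_univ
  rw [Fintype.card_fin] at h1
  have h2 := Nat.even_iff.1 hx.2.1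
  have h3 := Nat.odd_iff.1 hd.odd
  omega

theorem upp_zero (h : r = n) (x : Finset (Fin n)) : (upp r x).card = 0 := by
  have := upp_card_le r x; omega

theorem isT_upp {t : Finset (Fin n)} (ht : IsT r t) : (r = n ∧ (upp r t).card = 0) ∨
    (r < n ∧ (upp r t).card = 1) := by
  obtain ⟨⟨-, -, hq⟩, h4, h1⟩ := ht
  by_cases h : r = n
  · exact Or.inl ⟨h, hd.upp_zero h t⟩
  · have := hd.le
    have hq' := Nat.odd_iff.1 (hq.resolve_left h)
    rw [h4] at hq'
    exact Or.inr ⟨by omega, by omega⟩

theorem isT_upp_eq {t t' : Finset (Fin n)} (ht : IsT r t) (ht' : IsT r t') :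
    (upp r t).card = (upp r t').card := by
  rcases hd.isT_upp ht with h | h <;> rcases hd.isT_upp ht' with h' | h' <;> omega

theorem four_cases {x : Finset (Fin n)} (hx : Pt n r x) (h : x.card = 4) :
    IsT r x ∨ (r < n ∧ (upp r x).card = 3) := by
  by_cases hr : r = n
  · exact Or.inl ⟨hx, h, by rw [hd.upp_zero hr]; omega⟩
  · have hq := Nat.odd_iff.1 (hx.2.2.resolve_left hr)
    rw [h] at hq
    have := hd.upp_le_three x
    have := hd.le
    rcases (show (upp r x).card = 1 ∨ (upp r x).card = 3 by omega) with k | k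
    · exact Or.inl ⟨hx, h, k.le⟩
    · exact Or.inr ⟨by omega, k⟩

theorem two_cases {x : Finset (Fin n)} (hx : Pt n r x) (h : x.card = 2) :
    ∃ i j, SameCol r i j ∧ i ≠ j ∧ x = {i, j} := by
  obtain ⟨i, j, hne, rfl⟩ := Finset.card_eq_two.1 h
  refine ⟨i, j, ?_, hne, rfl⟩
  have := i.2; have := j.2
  by_cases hr : r = n
  · simp only [SameCol]; omega
  have hq := Nat.odd_iff.1 (hx.2.2.resolve_left hr)
  rw [h] at hq
  by_cases hi : r ≤ i.1 <;> by_cases hj : r ≤ j.1 <;>
    simp [upp, Finset.filter_insert, Finset.filter_singleton, hi, hj, hne] at hq <;> simp [SameCol, hi, hj]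

theorem pt_pair {i j : Fin n} (hc : SameCol r i j) (hne : i ≠ j) : Pt n r {i, j} := by
  refine ⟨⟨i, by simp⟩, by rw [Finset.card_pair hne]; decide, Or.inr ?_⟩
  rw [Finset.card_pair hne]
  by_cases hi : r ≤ i.1
  · simp [upp, Finset.filter_insert, Finset.filter_singleton, hi, hc.1 hi, hne, Nat.odd_iff]
  · simp [upp, Finset.filter_insert, Finset.filter_singleton, hi, show ¬ r ≤ j.1 from fun k => hi (hc.2 k)]

/-- Assemble a generating point from lower points and one further point. -/
theorem isT_insert {U : Finset (Fin n)} {q : Fin n} (hU : U.card = 3) (hlow : ∀ i ∈ U, i.1 < r)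
    (hq : q ∉ U) (hcol : r < n → r ≤ q.1) :
    IsT r (insert q U) ∧ ∀ y, upp r (y ∩ U) = ∅ := by
  have hempty : ∀ y, upp r (y ∩ U) = ∅ := fun y => Finset.filter_eq_empty_iff.2 fun i hi => by
    have := hlow i (Finset.mem_inter.1 hi).2; omega
  have hUu : upp r U = ∅ := Finset.filter_eq_empty_iff.2 fun i hi => by have := hlow i hi; omega
  have h4 : (insert q U).card = 4 := by rw [Finset.card_insert_of_notMem hq, hU]
  by_cases hr : r = n
  · exact ⟨⟨⟨⟨q, by simp⟩, by rw [h4]; decide, Or.inl hr⟩, h4, by rw [hd.upp_zero hr]; omega⟩, hempty⟩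
  · have hqr := hcol (by have := hd.le; omega)
    have h1 : upp r (insert q U) = {q} := by
      rw [upp, Finset.filter_insert, if_pos hqr]
      change insert q (upp r U) = _
      rw [hUu]
      rfl
    exact ⟨⟨⟨⟨q, by simp⟩, by rw [h4]; decide, Or.inr (by rw [h4, h1, Finset.card_singleton]; decide)⟩, h4, by rw [h1]; rfl⟩, hempty⟩

theorem exists_seedT {z : Finset (Fin n)} (hz : Pt n r z) (h6 : 6 ≤ z.card) : ∃ t, SeedT r z t := by
  have hlow := card_low_add_upp r z
  have h3 := hd.upp_le_three z
  have hcl := hd.card_lt hz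
  have hlu := card_low_univ (n := n) hd.le
  by_cases hA : HasA r z
  · obtain ⟨c, hc⟩ := Finset.card_pos.1 (show 0 < (upp r z).card from hA.1)
    obtain ⟨p, hp⟩ : (low r (Finset.univ : Finset (Fin n)) \ z).Nonempty := by
      rw [← Finset.card_pos]
      have h1 := Finset.card_sdiff_add_card_inter (low r (Finset.univ : Finset (Fin n))) z
      have h2 : low r (Finset.univ : Finset (Fin n)) ∩ z = low r z := by ext; simp [mem_low]; tauto
      rw [h2, hlu] at h1
      have := hA.2
      omega
    obtain ⟨U, hUz, hU⟩ := Finset.exists_subset_card_eq (show 2 ≤ (low r z).card by omega)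
    rw [Finset.mem_sdiff, mem_low] at hp
    rw [mem_upp] at hc
    have hU' : ∀ i ∈ U, i ∈ z ∧ i.1 < r := fun i hi => mem_low.1 (hUz hi)
    have hpU : p ∉ U := fun k => hp.2 (hU' p k).1
    have hcU : c ∉ insert p U := by
      rw [Finset.mem_insert]
      rintro (rfl | k)
      · exact hp.2 hc.1
      · have := (hU' c k).2; omega
    obtain ⟨hT, hemp⟩ := hd.isT_insert (U := insert p U) (q := c)
      (by rw [Finset.card_insert_of_notMem hpU, hU]) (by
        intro i hi; rcases Finset.mem_insert.1 hi with rfl | k; exacts [hp.1.2, (hU' i k).2]) hcU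
      (fun _ => hc.2)
    have hi : insert c (insert p U) ∩ z = insert c U := by
      ext i
      simp only [Finset.mem_inter, Finset.mem_insert]
      constructor
      · rintro ⟨rfl | rfl | k, k'⟩
        exacts [Or.inl rfl, absurd k' hp.2, Or.inr k]
      · rintro (rfl | k)
        exacts [⟨Or.inl rfl, hc.1⟩, ⟨Or.inr (Or.inr k), (hU' i k).1⟩]
    refine ⟨_, hT, ?_, fun _ => ?_, fun h => absurd hA h⟩
    · rw [hi, Finset.card_insert_of_notMem fun k => hcU (Finset.mem_insert_of_mem k), hU]
    · rw [hi, upp, Finset.filter_insert, if_pos hc.2,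
        Finset.filter_eq_empty_iff.2 fun i hi => by have := (hU' i hi).2; omega]
      rfl
  · obtain ⟨q, hq, hcol⟩ : ∃ q, q ∉ z ∧ (r < n → r ≤ q.1) := by
      by_cases hr : r < n
      · obtain ⟨q, hq⟩ : (upp r (Finset.univ : Finset (Fin n)) \ z).Nonempty := by
          rw [← Finset.card_pos]
          have h1 := Finset.card_sdiff_add_card_inter (upp r (Finset.univ : Finset (Fin n))) z
          have h2 : upp r (Finset.univ : Finset (Fin n)) ∩ z = upp r z := by ext; simp [mem_upp]; tauto
          rw [h2, card_upp_univ hd.le] at h1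
          unfold HasA at hA
          omega
        rw [Finset.mem_sdiff, mem_upp] at hq
        exact ⟨q, hq.2, fun _ => hq.1.2⟩
      · obtain ⟨q, -, hq⟩ := Finset.exists_mem_notMem_of_card_lt_card (s := z) (t := Finset.univ)
          (by simpa using hcl)
        exact ⟨q, hq, fun k => absurd k hr⟩
    obtain ⟨U, hUz, hU⟩ := Finset.exists_subset_card_eq (show 3 ≤ (low r z).card by omega)
    have hU' : ∀ i ∈ U, i ∈ z ∧ i.1 < r := fun i hi => mem_low.1 (hUz hi)
    have hqU : q ∉ U := fun k => hq (hU' q k).1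
    obtain ⟨hT, hemp⟩ := hd.isT_insert hU (fun i hi => (hU' i hi).2) hqU hcol
    have hi : insert q U ∩ z = U := by
      ext i
      simp only [Finset.mem_inter, Finset.mem_insert]
      exact ⟨fun ⟨k, k'⟩ => k.resolve_left fun e => hq (e ▸ k'), fun k => ⟨Or.inr k, (hU' i k).1⟩⟩
    refine ⟨_, hT, by rw [hi, hU], fun h => absurd h hA, fun _ => ?_⟩
    have := hemp U
    rw [Finset.inter_self] at this
    rw [hi, this]
    rfl

theorem exists_excT {x : Finset (Fin n)} (h4 : x.card = 4) (h3 : (upp r x).card = 3) : ∃ t, ExcT r x t := by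
  have hlow := card_low_add_upp r x
  obtain ⟨c, hc⟩ := Finset.card_pos.1 (show 0 < (upp r x).card by omega)
  rw [mem_upp] at hc
  have h1 := Finset.card_sdiff_add_card_inter (low r (Finset.univ : Finset (Fin n))) x
  have h2 : low r (Finset.univ : Finset (Fin n)) ∩ x = low r x := by ext; simp [mem_low]; tauto
  rw [h2, card_low_univ hd.le] at h1
  have := hd.four_le
  obtain ⟨U, hUx, hU⟩ :=
    Finset.exists_subset_card_eq (show 3 ≤ (low r (Finset.univ : Finset (Fin n)) \ x).card by omega)
  have hU' : ∀ i ∈ U, i ∉ x ∧ i.1 < r := fun i hi => by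
    have := hUx hi
    rw [Finset.mem_sdiff, mem_low] at this
    exact ⟨this.2, this.1.2⟩
  obtain ⟨hT, -⟩ := hd.isT_insert hU (fun i hi => (hU' i hi).2) (fun k => (hU' c k).1 hc.1) (fun _ => hc.2)
  have hi : insert c U ∩ x = {c} := by
    ext i
    simp only [Finset.mem_inter, Finset.mem_insert, Finset.mem_singleton]
    exact ⟨fun ⟨k, k'⟩ => k.resolve_right fun e => (hU' i e).1 k', fun k => ⟨Or.inl k, k ▸ hc.1⟩⟩
  refine ⟨_, hT, by rw [hi]; rfl, ?_⟩
  rw [hi, upp, Finset.filter_singleton, if_pos hc.2]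
  rfl

end Dims

/-- A set of least label sum with given counts has no lowering pair. -/
theorem exists_minimal (r : ℕ) (z : Finset (Fin n)) : ∃ z' : Finset (Fin n), z'.card = z.card ∧
    (upp r z').card = (upp r z).card ∧ ∀ i j, ¬ Lower r z' i j := by
  classical
  obtain ⟨z', hz', hmin⟩ := Finset.exists_min_image
    ((Finset.univ : Finset (Finset (Fin n))).filter fun y => y.card = z.card ∧ (upp r y).card = (upp r z).card)
    wt ⟨z, by simp⟩
  simp only [Finset.mem_filter, Finset.mem_univ, true_and] at hz' hmin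
  refine ⟨z', hz'.1, hz'.2, fun i j h => ?_⟩
  have := hmin (op {i, j} z') ⟨h.card_op.trans hz'.1, h.upp_op.trans hz'.2⟩
  have := h.wt_op
  omega

end CfsgLib.TwoRadGen.Binary
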