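import Mathlib
import Cfsg.Agent.Lib.TwoRadGen.Binary.Points

/-!
# Binary spaces with an alternating form as spaces of even sets of points

A simplex is a spanning family of an odd number of vectors with sum zero, any two of which pair to one.
A quadratic form agrees on it with a count of upper points, and the simplex can be moved until at most
three points are upper.
-/

set_option autoImplicit false

namespace CfsgLib.TwoRadGen.Binary

open Finset
open scoped symmDiff

universe w

variable {W : Type w} [AddCommGroup W] [Module (ZMod 2) W]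

theorem add_self' (v : W) : v + v = 0 := by
  rw [← two_smul (ZMod 2) v, show (2 : ZMod 2) = 0 by decide, zero_smul]

/-- A spanning family with sum zero, any two members pairing to one. -/
structure Simplex (B : W →ₗ[ZMod 2] W →ₗ[ZMod 2] ZMod 2) {ι : Type} [Fintype ι] (u : ι → W) : Prop where
  pair : ∀ i j, i ≠ j → B (u i) (u j) = 1
  sum : ∑ i, u i = 0
  span : ∀ v, ∃ c : ι → ZMod 2, ∑ i, c i • u i = v
  odd : Odd (Fintype.card ι)

variable {B : W →ₗ[ZMod 2] W →ₗ[ZMod 2] ZMod 2}

theorem Simplex.reindex {ι κ : Type} [Fintype ι] [Fintype κ] {u : ι → W} (h : Simplex B u) (e : κ ≃ ι) :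
    Simplex B (u ∘ e) where
  pair i j hij := h.pair _ _ (e.injective.ne hij)
  sum := (e.sum_comp u).trans h.sum
  span v := by
    obtain ⟨c, hc⟩ := h.span v
    exact ⟨c ∘ e, (e.sum_comp fun i => c i • u i).trans hc⟩
  odd := Fintype.card_congr e ▸ h.odd

theorem symm_of_alt (halt : ∀ x, B x x = 0) (x y : W) : B x y = B y x := by
  have h := halt (x + y)
  simp only [map_add, LinearMap.add_apply, halt, zero_add, add_zero] at h
  exact (CharTwo.add_eq_zero.1 h).symm

/-- A hyperbolic pair extends a simplex of its complement. -/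
theorem exists_simplex_aux : ∀ (k : ℕ) (W : Type w) [AddCommGroup W] [Module (ZMod 2) W] [Finite W]
    (B : W →ₗ[ZMod 2] W →ₗ[ZMod 2] ZMod 2), (∀ x, B x x = 0) → (∀ x, (∀ y, B x y = 0) → x = 0) →
    Nat.card W ≤ k → ∃ (n : ℕ) (u : Fin n → W), Simplex B u := by
  intro k
  induction k with
  | zero => intro W _ _ _ B _ _ h; exact absurd h (Nat.not_le.2 Nat.card_pos)
  | succ k ih =>
    intro W _ _ _ B halt hsep hk
    by_cases h0 : ∀ v : W, v = 0
    · exact ⟨1, fun _ => 0, fun i j h => absurd (Subsingleton.elim i j) h, by simp,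
        fun v => ⟨0, by simp [h0 v]⟩, odd_one⟩
    push Not at h0
    obtain ⟨e, he⟩ := h0
    obtain ⟨f, hf⟩ : ∃ f, B e f = 1 := by
      by_contra h
      push Not at h
      exact he (hsep e fun y => (z2 _).resolve_right (h y))
    have hsym := symm_of_alt halt
    have hfe : B f e = 1 := hsym f e ▸ hf
    let W' : Submodule (ZMod 2) W := LinearMap.ker (B e) ⊓ LinearMap.ker (B f)
    let B' : W' →ₗ[ZMod 2] W' →ₗ[ZMod 2] ZMod 2 := B.domRestrict₁₂ W' W'
    let pr : W → W := fun v => v + B v f • e + B v e • f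
    have hpr : ∀ v, pr v ∈ W' := by
      intro v
      refine Submodule.mem_inf.2 ⟨LinearMap.mem_ker.2 ?_, LinearMap.mem_ker.2 ?_⟩ <;>
        simp [pr, halt, hf, hfe, hsym _ v, CharTwo.add_self_eq_zero]
    have hdec : ∀ v, v = pr v + B v f • e + B v e • f := fun v => by
      simp only [pr]
      rw [show v + B v f • e + B v e • f + B v f • e + B v e • f =
        v + (B v f • e + B v f • e) + (B v e • f + B v e • f) by abel, add_self', add_self', add_zero, add_zero]
    have hsep' : ∀ x : W', (∀ y : W', B' x y = 0) → x = 0 := by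
      intro x hx
      refine Subtype.ext (hsep x fun v => ?_)
      have h1 := LinearMap.mem_ker.1 (Submodule.mem_inf.1 x.2).1
      have h2 := LinearMap.mem_ker.1 (Submodule.mem_inf.1 x.2).2
      rw [hdec v, map_add, map_add, map_smul, map_smul, hsym (x : W) e, h1, hsym (x : W) f, h2,
        show B x (pr v) = 0 from hx ⟨_, hpr v⟩]
      simp
    have hlt : Nat.card W' < Nat.card W :=
      Finite.card_subtype_lt (x := e) fun h => by
        have := LinearMap.mem_ker.1 (Submodule.mem_inf.1 h).2
        rw [hfe] at this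
        exact one_ne_zero this
    obtain ⟨n, u, hu⟩ := ih W' B' (fun x => halt x) hsep' (by omega)
    have huk : ∀ i, B e (u i) = 0 ∧ B f (u i) = 0 ∧ B (u i : W) e = 0 ∧ B (u i : W) f = 0 := fun i => by
      have h1 := LinearMap.mem_ker.1 (Submodule.mem_inf.1 (u i).2).1
      have h2 := LinearMap.mem_ker.1 (Submodule.mem_inf.1 (u i).2).2
      exact ⟨h1, h2, hsym e (u i : W) ▸ h1, hsym f (u i : W) ▸ h2⟩
    let g : Fin n ⊕ Fin 2 → W := Sum.elim (fun i => (u i : W) + (e + f)) ![e, f]
    refine ⟨n + 2, g ∘ finSumFinEquiv.symm, Simplex.reindex ?_ _⟩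
    refine ⟨?_, ?_, fun v => ?_, ?_⟩
    · rintro (i | i) (j | j) hij
      · have h : B (u i : W) (u j) = 1 := hu.pair i j fun h => hij (congrArg Sum.inl h)
        simp [g, huk, halt, hf, hfe, h, CharTwo.add_self_eq_zero]
      · fin_cases j <;> simp [g, huk, halt, hf, hfe]
      · fin_cases i <;> simp [g, huk, halt, hf, hfe]
      · fin_cases i <;> fin_cases j <;> simp [g, halt, hf, hfe] at hij ⊢
    · have hs : ∑ i, (u i : W) = 0 := by
        simpa using congrArg Subtype.val hu.sum
      obtain ⟨j, hj⟩ := hu.odd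
      rw [Fintype.card_fin] at hj
      simp only [g, Fintype.sum_sum_type, Sum.elim_inl, Sum.elim_inr, Finset.sum_add_distrib, hs,
        Fin.sum_univ_two, Finset.sum_const, Finset.card_fin, Matrix.cons_val_zero, Matrix.cons_val_one]
      have hn : ∀ a : W, n • a = a := fun a => by
        rw [hj, add_nsmul, one_nsmul, mul_nsmul, two_nsmul, add_self', nsmul_zero, zero_add]
      simp [hn, add_self']
    · obtain ⟨c, hc⟩ := hu.span ⟨_, hpr v⟩
      have hc' : ∑ i, c i • (u i : W) = pr v := by
        simpa using congrArg Subtype.val hc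
      refine ⟨Sum.elim c ![B v f + ∑ i, c i, B v e + ∑ i, c i], ?_⟩
      simp only [g, Fintype.sum_sum_type, Sum.elim_inl, Sum.elim_inr, smul_add, Finset.sum_add_distrib, hc',
        Fin.sum_univ_two, Matrix.cons_val_zero, Matrix.cons_val_one, add_smul, ← Finset.sum_smul]
      refine Eq.trans ?_ (hdec v).symm
      generalize (∑ i, c i) • e = a
      generalize (∑ i, c i) • f = b
      rw [show pr v + (a + b) + (B v f • e + a + (B v e • f + b)) =
        pr v + B v f • e + B v e • f + ((a + a) + (b + b)) by abel, add_self', add_self', add_zero, add_zero]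
    · have := hu.odd
      simp only [Fintype.card_sum, Fintype.card_fin, Nat.odd_iff] at *
      omega

/-- Every space with a non-degenerate alternating form has a simplex. -/
theorem exists_simplex [Finite W] (halt : ∀ x, B x x = 0) (hsep : ∀ x, (∀ y, B x y = 0) → x = 0) :
    ∃ (n : ℕ) (u : Fin n → W), Simplex B u :=
  exists_simplex_aux _ W B halt hsep le_rfl

namespace Simplex

variable {n : ℕ} {u : Fin n → W} (h : Simplex B u) (halt : ∀ x, B x x = 0)

/-- The vector of a set of points. -/
def vec (u : Fin n → W) (x : Finset (Fin n)) : W := ∑ i ∈ x, u i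

theorem vec_symmDiff (u : Fin n → W) (x y : Finset (Fin n)) : vec u (x ∆ y) = vec u x + vec u y := by
  simp only [vec]
  rw [← Finset.sum_sdiff (s₁ := x ∩ y) (s₂ := x) Finset.inter_subset_left,
    ← Finset.sum_sdiff (s₁ := x ∩ y) (s₂ := y) Finset.inter_subset_right, symmDiff_def, Finset.sup_eq_union,
    Finset.sum_union disjoint_sdiff_sdiff]
  have e1 : x \ (x ∩ y) = x \ y := by ext; simp
  have e2 : y \ (x ∩ y) = y \ x := by ext; simp
  rw [e1, e2]
  generalize ∑ i ∈ x \ y, u i = a
  generalize ∑ i ∈ y \ x, u i = b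
  generalize ∑ i ∈ x ∩ y, u i = c
  rw [show a + c + (b + c) = a + b + (c + c) by abel, add_self', add_zero]

include h halt

theorem B_vec (x y : Finset (Fin n)) : B (vec u x) (vec u y) = (x.card : ZMod 2) * y.card + bp x y := by
  have key : ∀ i j : Fin n, B (u i) (u j) = 1 + if i = j then 1 else 0 := fun i j => by
    split_ifs with hij
    · subst hij; rw [halt]; decide
    · rw [h.pair i j hij, add_zero]
  simp only [vec, map_sum, LinearMap.sum_apply, key, Finset.sum_add_distrib, Finset.sum_const, nsmul_one,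
    Finset.sum_ite_eq', bp]
  rw [Finset.sum_ite_mem, Finset.sum_const, nsmul_one, nsmul_eq_mul, mul_comm, Finset.inter_comm y x]

theorem B_vec_even {x : Finset (Fin n)} (hx : Even x.card) (y : Finset (Fin n)) :
    B (vec u x) (vec u y) = bp x y := by
  rw [h.B_vec halt, ZMod.natCast_eq_zero_iff_even.2 hx, zero_mul, zero_add]

theorem vec_eq_zero {x : Finset (Fin n)} (hx : Even x.card) (h0 : vec u x = 0) : x = ∅ := by
  refine Finset.eq_empty_of_forall_notMem fun i hi => ?_
  have := h.B_vec_even halt hx {i}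
  rw [h0, map_zero, LinearMap.zero_apply, bp, Finset.inter_singleton_of_mem hi, Finset.card_singleton,
    Nat.cast_one] at this
  exact zero_ne_one this

theorem vec_inj {x y : Finset (Fin n)} (hx : Even x.card) (hy : Even y.card) (e : vec u x = vec u y) :
    x = y := by
  have hev : Even (x ∆ y).card := by
    have := card_symmDiff x y
    rw [Nat.even_iff] at *
    omega
  have h0 := h.vec_eq_zero halt hev (by rw [vec_symmDiff, e, add_self'])
  rwa [← Finset.bot_eq_empty, symmDiff_eq_bot] at h0

omit halt in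
theorem exists_even (v : W) : ∃ x : Finset (Fin n), Even x.card ∧ vec u x = v := by
  classical
  obtain ⟨c, hc⟩ := h.span v
  set x := (Finset.univ : Finset (Fin n)).filter (fun i => c i = 1)
  have hx : vec u x = v := by
    rw [← hc, vec, Finset.sum_filter]
    refine Finset.sum_congr rfl fun i _ => ?_
    rcases z2 (c i) with k | k <;> simp [k]
  by_cases hev : Even x.card
  · exact ⟨x, hev, hx⟩
  · refine ⟨x ∆ Finset.univ, ?_, by rw [vec_symmDiff, hx, vec, h.sum, add_zero]⟩
    have := card_symmDiff x Finset.univ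
    have ho := h.odd
    rw [Finset.inter_univ, Finset.card_univ] at this
    rw [Nat.not_even_iff_odd, Nat.odd_iff] at hev
    rw [Nat.odd_iff] at ho
    rw [Nat.even_iff]
    omega

theorem card_eq [Finite W] : Nat.card W = 2 ^ (n - 1) := by
  classical
  have hn : 0 < n := by
    have := h.odd
    rw [Fintype.card_fin] at this
    exact this.pos
  let a : Fin n := ⟨0, hn⟩
  have hbij : Function.Bijective
      (fun x : {x : Finset (Fin n) // x ∈ ((Finset.univ : Finset (Fin n)).erase a).powerset} => vec u x.1) := by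
    refine ⟨fun x y e => ?_, fun v => ?_⟩
    · have hxa : ∀ i ∈ x.1, i ≠ a := fun i hi => (Finset.mem_erase.1 (Finset.mem_powerset.1 x.2 hi)).1
      have hya : ∀ i ∈ y.1, i ≠ a := fun i hi => (Finset.mem_erase.1 (Finset.mem_powerset.1 y.2 hi)).1
      have hd : a ∉ x.1 ∆ y.1 := by
        simp [Finset.mem_symmDiff, show a ∉ x.1 from fun k => hxa a k rfl, show a ∉ y.1 from fun k => hya a k rfl]
      have h0 : vec u (x.1 ∆ y.1) = 0 := by rw [vec_symmDiff, show vec u x.1 = vec u y.1 from e, add_self']
      refine Subtype.ext (symmDiff_eq_bot.1 ?_)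
      by_cases hev : Even (x.1 ∆ y.1).card
      · exact h.vec_eq_zero halt hev h0
      · exfalso
        have hev' : Even ((x.1 ∆ y.1) ∆ Finset.univ).card := by
          have := card_symmDiff (x.1 ∆ y.1) Finset.univ
          have ho := h.odd
          rw [Finset.inter_univ, Finset.card_univ] at this
          rw [Nat.not_even_iff_odd, Nat.odd_iff] at hev
          rw [Nat.odd_iff] at ho
          rw [Nat.even_iff]
          omega
        have h1 := h.vec_eq_zero halt hev' (by rw [vec_symmDiff, h0, vec, h.sum, add_zero])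
        have : a ∈ (x.1 ∆ y.1) ∆ Finset.univ := Finset.mem_symmDiff.2 (Or.inr ⟨Finset.mem_univ a, hd⟩)
        rw [h1] at this
        simp at this
    · obtain ⟨x, -, hx⟩ := h.exists_even v
      by_cases ha : a ∈ x
      · refine ⟨⟨x ∆ Finset.univ, Finset.mem_powerset.2 fun i hi => Finset.mem_erase.2 ⟨?_, Finset.mem_univ i⟩⟩,
          ?_⟩
        · rintro rfl
          simp [Finset.mem_symmDiff, ha] at hi
        · show vec u (x ∆ Finset.univ) = v
          rw [vec_symmDiff, hx, vec, h.sum, add_zero]
      · exact ⟨⟨x, Finset.mem_powerset.2 fun i hi => Finset.mem_erase.2 ⟨fun e => ha (e ▸ hi), Finset.mem_univ i⟩⟩,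
          hx⟩
  rw [← Nat.card_congr (Equiv.ofBijective _ hbij), Nat.card_eq_fintype_card, Fintype.card_coe,
    Finset.card_powerset, Finset.card_erase_of_mem (Finset.mem_univ a), Finset.card_univ, Fintype.card_fin]

theorem vec_op {x : Finset (Fin n)} (hx : Even x.card) (y : Finset (Fin n)) :
    vec u (op x y) = vec u y + B (vec u x) (vec u y) • vec u x := by
  rw [h.B_vec_even halt hx]
  by_cases ho : Odd (x ∩ y).card
  · rw [op_odd ho, vec_symmDiff, bp_eq_one.2 ho, one_smul, add_comm]
  · rw [op_even (Nat.not_odd_iff_even.1 ho), bp_eq_zero.2 (Nat.not_odd_iff_even.1 ho), zero_smul, add_zero]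

end Simplex

/-! ### Quadratic forms -/

section Quad

variable (Q : QuadraticForm (ZMod 2) W)

theorem polar_self (x : W) : Q.polarBilin x x = 0 := by
  rw [QuadraticMap.polarBilin_apply_apply, QuadraticMap.polar_self, two_smul, CharTwo.add_self_eq_zero]

theorem q_add (x y : W) : Q (x + y) = Q x + Q y + Q.polarBilin x y := by
  rw [QuadraticMap.polarBilin_apply_apply]
  exact QuadraticMap.map_add Q x y

variable {Q} {n : ℕ} {u : Fin n → W}

theorem q_vec (h : Simplex Q.polarBilin u) (x : Finset (Fin n)) :
    Q (Simplex.vec u x) = (∑ i ∈ x, Q (u i)) + (x.card.choose 2 : ℕ) := by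
  classical
  induction x using Finset.induction_on with
  | empty => simp [Simplex.vec]
  | insert a s ha ih =>
    have hB : Q.polarBilin (u a) (Simplex.vec u s) = (s.card : ZMod 2) := by
      rw [Simplex.vec, map_sum, Finset.sum_congr rfl fun j hj => h.pair a j fun e => ha (e ▸ hj)]
      simp
    rw [Simplex.vec, Finset.sum_insert ha, Finset.sum_insert ha, q_add, ← Simplex.vec, ih, hB,
      Finset.card_insert_of_notMem ha, Nat.choose_succ_succ', Nat.choose_one_right, Nat.cast_add]
    ring

theorem choose_two_parity (k : ℕ) : ((2 * k).choose 2 : ZMod 2) = (k : ZMod 2) := by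
  induction k with
  | zero => simp
  | succ k ih =>
    rw [show 2 * (k + 1) = 2 * k + 1 + 1 by ring, Nat.choose_succ_succ', Nat.choose_one_right,
      Nat.choose_succ_succ', Nat.choose_one_right]
    push_cast
    rw [ih, show (2 : ZMod 2) = 0 by decide]
    ring

/-- The value on an even set, with the upper points those of value different from `ε`. -/
theorem q_even (h : Simplex Q.polarBilin u) (ε : ZMod 2) {x : Finset (Fin n)} (hx : Even x.card) :
    Q (Simplex.vec u x) =
      ((x.card / 2 + (x ∩ Finset.univ.filter fun i => Q (u i) ≠ ε).card : ℕ) : ZMod 2) := by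
  classical
  have key : ∀ i, Q (u i) = ε + if Q (u i) ≠ ε then 1 else 0 := fun i => by
    split_ifs with k
    · revert k; generalize Q (u i) = a; revert a ε; decide
    · rw [add_zero]; exact not_not.1 k
  rw [q_vec h, Finset.sum_congr rfl fun i _ => key i, Finset.sum_add_distrib, Finset.sum_const,
    Finset.sum_boole, nsmul_eq_mul, ZMod.natCast_eq_zero_iff_even.2 hx, zero_mul, zero_add,
    Finset.inter_filter, Finset.inter_univ]
  obtain ⟨k, hk⟩ : ∃ k, x.card = 2 * k := hx.exists_two_nsmul |>.imp fun k e => by simpa using e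
  rw [hk, choose_two_parity, Nat.mul_div_cancel_left _ two_pos, Nat.cast_add, add_comm]

/-- Four points of one value may be moved to the other. -/
theorem reduce_four (h : Simplex Q.polarBilin u) {F : Finset (Fin n)} (hF : F.card = 4) {δ : ZMod 2}
    (hδ : ∀ i ∈ F, Q (u i) = δ) :
    Simplex Q.polarBilin (fun i => u i + if i ∈ F then Simplex.vec u F else 0) ∧
      ∀ i, Q (u i + if i ∈ F then Simplex.vec u F else 0) = Q (u i) + if i ∈ F then 1 else 0 := by
  classical
  set σ := Simplex.vec u F with hσ
  have halt := polar_self Q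
  have hBσ : ∀ i, Q.polarBilin (u i) σ = if i ∈ F then 1 else 0 := fun i => by
    have := h.B_vec halt {i} F
    rw [Simplex.vec, Finset.sum_singleton, Finset.card_singleton, hF, bp] at this
    rw [this, show ((4 : ℕ) : ZMod 2) = 0 from rfl, mul_zero, zero_add]
    split_ifs with hi
    · rw [Finset.singleton_inter_of_mem hi]; rfl
    · rw [Finset.singleton_inter_of_notMem hi]; rfl
  have hσσ : Q σ = 0 := by
    rw [hσ, q_vec h, Finset.sum_congr rfl hδ, Finset.sum_const, hF, nsmul_eq_mul,
      show ((4 : ℕ) : ZMod 2) = 0 from rfl, zero_mul, zero_add]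
    decide
  have hsym := symm_of_alt halt
  refine ⟨⟨fun i j hij => ?_, ?_, fun v => ?_, h.odd⟩, fun i => ?_⟩
  · have hp := h.pair i j hij
    have h1 : Q.polarBilin σ (u j) = if j ∈ F then 1 else 0 := (hsym σ (u j)).trans (hBσ j)
    by_cases hi : i ∈ F <;> by_cases hj : j ∈ F <;>
      simp only [hi, hj, if_true, if_false, map_add, add_zero, LinearMap.add_apply, hp, hBσ, h1, halt σ] <;>
      decide
  · rw [Finset.sum_add_distrib, h.sum, zero_add, Finset.sum_ite_mem, Finset.univ_inter, Finset.sum_const, hF,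
      show (4 : ℕ) = 2 * 2 from rfl, mul_nsmul, two_nsmul, add_self']
  · obtain ⟨c, hc⟩ := h.span v
    set s := ∑ i ∈ F, c i
    refine ⟨fun i => c i + if i ∈ F then s else 0, ?_⟩
    have e1 : ∀ i, (c i + if i ∈ F then s else 0) • (u i + if i ∈ F then σ else 0) =
        c i • u i + if i ∈ F then c i • σ + (s • u i + s • σ) else 0 := fun i => by
      split_ifs with hi
      · rw [add_smul, smul_add, smul_add]; abel
      · rw [add_zero, add_zero, add_zero]
    rw [Finset.sum_congr rfl fun i _ => e1 i, Finset.sum_add_distrib, hc, Finset.sum_ite_mem, Finset.univ_inter,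
      Finset.sum_add_distrib, Finset.sum_add_distrib, ← Finset.sum_smul, ← Finset.smul_sum, Finset.sum_const, hF,
      show (4 : ℕ) = 2 * 2 from rfl, mul_nsmul, two_nsmul, add_self', add_zero,
      show (∑ i ∈ F, u i) = σ from rfl, add_self', add_zero]
  · split_ifs with hi
    · rw [q_add, hσσ, hBσ, if_pos hi, add_zero]
    · rw [add_zero, add_zero]

theorem exists_few (h : Simplex Q.polarBilin u) : ∃ (u' : Fin n → W) (ε : ZMod 2), Simplex Q.polarBilin u' ∧
    (Finset.univ.filter fun i => Q (u' i) ≠ ε).card ≤ 3 ∧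
      Odd (Finset.univ.filter fun i => Q (u' i) ≠ ε).card := by
  classical
  obtain ⟨ε, hε⟩ : ∃ ε, Odd (Finset.univ.filter fun i => Q (u i) ≠ ε).card := by
    by_contra hno
    push Not at hno
    have h0 := Nat.not_odd_iff_even.1 (hno 0)
    have h1 := Nat.not_odd_iff_even.1 (hno 1)
    have hc := Finset.card_filter_add_card_filter_not (s := (Finset.univ : Finset (Fin n))) (fun i => Q (u i) ≠ 0)
    rw [Finset.filter_congr (q := fun i => Q (u i) ≠ 1) (s := Finset.univ)
      (p := fun i => ¬ Q (u i) ≠ 0) fun i _ => by generalize Q (u i) = a; revert a; decide, Finset.card_univ] at hc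
    exact Nat.not_even_iff_odd.2 h.odd (hc ▸ h0.add h1)
  induction hq : (Finset.univ.filter fun i => Q (u i) ≠ ε).card using Nat.strong_induction_on generalizing u with
  | _ q ih =>
    by_cases h3 : q ≤ 3
    · exact ⟨u, ε, h, hq ▸ h3, hε⟩
    set C := Finset.univ.filter fun i => Q (u i) ≠ ε with hC
    obtain ⟨F, hFC, hF⟩ := Finset.exists_subset_card_eq (show 4 ≤ C.card by omega)
    have hδ : ∀ i ∈ F, Q (u i) = ε + 1 := fun i hi => by
      have k := (Finset.mem_filter.1 (hFC hi)).2
      exact (by decide : ∀ a b : ZMod 2, a ≠ b → a = b + 1) _ _ k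
    obtain ⟨h', hQ⟩ := reduce_four h hF hδ
    set u' := fun i => u i + if i ∈ F then Simplex.vec u F else 0
    have hC' : (Finset.univ.filter fun i => Q (u' i) ≠ ε) = C \ F := by
      ext i
      simp only [Finset.mem_filter, Finset.mem_univ, true_and, Finset.mem_sdiff, hC, u', hQ]
      by_cases hi : i ∈ F
      · rw [if_pos hi, hδ i hi]
        simp [hi, add_assoc, show (1 : ZMod 2) + 1 = 0 from rfl]
      · simp [hi]
    have hc : (C \ F).card + 4 = C.card := by rw [Finset.card_sdiff_of_subset hFC, hF]; omega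
    refine ih (C \ F).card (by omega) h' ?_ (by rw [hC'])
    rw [hC']
    rw [Nat.odd_iff] at hε ⊢
    omega

end Quad

/-- The symplectic case. -/
theorem exists_sp_model [Finite W] (halt : ∀ x, B x x = 0) (hsep : ∀ x, (∀ y, B x y = 0) → x = 0)
    (hcard : 2 ^ 6 ≤ Nat.card W) :
    ∃ (n r : ℕ) (u : Fin n → W), Dims n r ∧ Simplex B u ∧
      ∀ x : Finset (Fin n), Even x.card → (Pt n r x ↔ Simplex.vec u x ≠ 0) := by
  obtain ⟨n, u, h⟩ := exists_simplex halt hsep
  rw [h.card_eq halt] at hcard
  have h6 := (Nat.pow_le_pow_iff_right (by omega)).1 hcard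
  refine ⟨n, n, u, ⟨by simpa using h.odd, by omega, le_rfl, by omega⟩, h, fun x hx => ?_⟩
  constructor
  · rintro ⟨hne, -, -⟩ h0
    exact hne.ne_empty (h.vec_eq_zero halt hx h0)
  · intro hv
    refine ⟨Finset.nonempty_iff_ne_empty.2 ?_, hx, Or.inl rfl⟩
    rintro rfl
    exact hv (by simp [Simplex.vec])

/-- The orthogonal case. -/
theorem exists_orth_model [Finite W] (Q : QuadraticForm (ZMod 2) W)
    (hsep : ∀ x, (∀ y, QuadraticMap.polar Q x y = 0) → x = 0) (hcard : 2 ^ 6 ≤ Nat.card W) :
    ∃ (n r : ℕ) (u : Fin n → W), Dims n r ∧ Simplex Q.polarBilin u ∧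
      ∀ x : Finset (Fin n), Even x.card → (Pt n r x ↔ Q (Simplex.vec u x) = 1) := by
  classical
  obtain ⟨n, u0, h0⟩ := exists_simplex (polar_self Q)
    fun x hx => hsep x fun y => (QuadraticMap.polarBilin_apply_apply Q x y).symm.trans (hx y)
  rw [h0.card_eq (polar_self Q)] at hcard
  have h6 := (Nat.pow_le_pow_iff_right (by omega)).1 hcard
  obtain ⟨u1, ε, h1, hle, hodd⟩ := exists_few h0
  set C := Finset.univ.filter fun i => Q (u1 i) ≠ ε with hC
  have hCn : C.card ≤ n := C.card_le_univ.trans_eq (Fintype.card_fin n)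
  set r := n - C.card with hr
  have hU : (upp r (Finset.univ : Finset (Fin n))).card = C.card := by
    rw [card_upp_univ (Nat.sub_le _ _)]; omega
  obtain ⟨π, hπ⟩ : ∃ π : Equiv.Perm (Fin n), ∀ i, π i ∈ C ↔ r ≤ i.1 := by
    let e : {i // i ∈ upp r (Finset.univ : Finset (Fin n))} ≃ {i // i ∈ C} :=
      Fintype.equivOfCardEq (by simpa using hU)
    refine ⟨e.extendSubtype, fun i => ?_⟩
    constructor
    · intro k
      by_contra k'
      exact e.extendSubtype_not_mem i (by simp [mem_upp, k']) k
    · exact fun k => e.extendSubtype_mem i (by simp [mem_upp, k])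
  refine ⟨n, r, u1 ∘ π, ⟨by simpa using h0.odd, by omega, Nat.sub_le _ _, by omega⟩, h1.reindex π,
    fun x hx => ?_⟩
  have hc : (x ∩ Finset.univ.filter fun i => Q ((u1 ∘ π) i) ≠ ε) = upp r x := by
    ext i
    simp only [Finset.mem_inter, Finset.mem_filter, Finset.mem_univ, true_and, mem_upp, Function.comp_apply]
    rw [← hπ i, hC, Finset.mem_filter]
    simp
  rw [q_even (h1.reindex π) ε hx, hc, ZMod.natCast_eq_one_iff_odd]
  constructor
  · rintro ⟨-, -, k | k⟩
    · exact absurd k (by have := hodd.pos; omega)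
    · exact k
  · refine fun k => ⟨Finset.nonempty_iff_ne_empty.2 ?_, hx, Or.inr k⟩
    rintro rfl
    simp [upp] at k

end CfsgLib.TwoRadGen.Binary
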