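import Mathlib
import Cfsg.Agent.Lib.TwoRadGen.Binary.Duads
import Cfsg.Agent.Lib.TwoRadGen.Binary.Points

/-!
# A closed selection over the points of the subset model

Every point of rank above its parents gets the member conjugate to the member of a parent by the member of
a generating point. Adjacent duads, then generating four-element points, then all points are closed.
-/

set_option autoImplicit false
set_option linter.unusedSectionVars false

namespace CfsgLib.TwoRadGen.Binary

open Finset
open scoped symmDiff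

universe u

variable {n r : ℕ}

/-- Four elements, three of them above the threshold. -/
def Top (r : ℕ) (x : Finset (Fin n)) : Prop := x.card = 4 ∧ (upp r x).card = 3

theorem rk_of_top {x : Finset (Fin n)} (h : Top r x) : rk r x = 7 := if_pos h

theorem rk_of_not_top {x : Finset (Fin n)} (h : ¬ Top r x) : rk r x = x.card := if_neg h

theorem IsT.not_top {t : Finset (Fin n)} (h : IsT r t) : ¬ Top r t := fun k => by
  have := h.2.2; have := k.2; omega

theorem upp_full {x : Finset (Fin n)} (hd : Dims n r) (h : (upp r x).card = 3) (y : Finset (Fin n)) :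
    upp r (x ∩ y) = upp r y := by
  have hu := card_upp_univ (n := n) hd.le
  have hle := Finset.card_le_card (upp_mono (r := r) (Finset.subset_univ x))
  have heq : upp r x = upp r Finset.univ :=
    Finset.eq_of_subset_of_card_le (upp_mono (Finset.subset_univ x)) (by have := hd.three; omega)
  rw [upp_inter, heq, ← upp_inter, Finset.univ_inter]

open Classical in
/-- The parents of a point: a generating point and the point it moves there. -/
noncomputable def parent (r : ℕ) (x : Finset (Fin n)) : Finset (Fin n) × Finset (Fin n) :=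
  if h : ∃ p : Fin n × Fin n, Lower r x p.1 p.2 then
    ({h.choose.1, h.choose.2}, op {h.choose.1, h.choose.2} x)
  else if Top r x then (Classical.epsilon (ExcT r x), op (Classical.epsilon (ExcT r x)) x)
  else if 6 ≤ x.card then (Classical.epsilon (SeedT r x), op (Classical.epsilon (SeedT r x)) x)
  else (x, x)

theorem parent_pt (hd : Dims n r) {x : Finset (Fin n)} (hx : Pt n r x) :
    parent r x = (x, x) ∨ (Pt n r (parent r x).1 ∧ (parent r x).2 = op (parent r x).1 x) := by
  unfold parent
  split_ifs with h1 h2 h3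
  · exact Or.inr ⟨hd.pt_pair h1.choose_spec.1 h1.choose_spec.ne, rfl⟩
  · exact Or.inr ⟨(Classical.epsilon_spec (hd.exists_excT h2.1 h2.2)).1.1, rfl⟩
  · exact Or.inr ⟨(Classical.epsilon_spec (hd.exists_seedT hx h3)).1.1, rfl⟩
  · exact Or.inl rfl

namespace Fibres

variable {G : Type u} [Group G]

open Classical in
/-- The selection. -/
noncomputable def sel (S : Fibres G (Pt n r)) (x : Finset (Fin n)) : G :=
  if x.card ≤ 2 then S.duadSel r x
  else if N r (parent r x).1 < N r x ∧ N r (parent r x).2 < N r x then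
    sel S (parent r x).1 * sel S (parent r x).2 * sel S (parent r x).1
  else S.pick x
termination_by N r x
decreasing_by all_goals (rename_i h; first | exact h.1 | exact h.2)

variable (hd : Dims n r) (S : Fibres G (Pt n r))
include hd

theorem sel_mem : S.Sel (S.sel) := by
  intro x hx
  induction hk : N r x using Nat.strong_induction_on generalizing x with
  | _ k ih =>
    rw [sel]
    split_ifs with h1 h2
    · have h2 : x.card = 2 := by
        have := Finset.card_pos.2 hx.1
        have := Nat.even_iff.1 hx.2.1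
        omega
      obtain ⟨i, j, hc, hne, rfl⟩ := hd.two_cases hx h2
      have hP := fun i j hc (hne : i ≠ j) => hd.pt_pair (i := i) (j := j) hc hne
      rcases lt_or_gt_of_ne hne with h | h
      · exact duadSel_mem S hP hc h
      · rw [Finset.pair_comm]; exact duadSel_mem S hP hc.symm h
    · rcases parent_pt hd hx with h | ⟨ht, he⟩
      · rw [h] at h2; exact absurd h2.1 (lt_irrefl _)
      have hy : Pt n r (parent r x).2 := he ▸ pt_op ht hx
      have hm := S.mul _ _ ht hy _ (ih _ (hk ▸ h2.1) _ ht rfl) _ (ih _ (hk ▸ h2.2) _ hy rfl)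
      rwa [show op (parent r x).1 (parent r x).2 = x by rw [he, op_op ht.2.1]] at hm
    · exact S.pick_mem hx

theorem sel_star : IsStar r S.sel := by
  intro i j hc hlt hb
  have hbj : base r i ≠ j := (hb.trans hlt).ne
  have key : ∀ {a b : Fin n}, a ≠ b → S.sel {a, b} = S.duadSel r {a, b} := fun h => by
    rw [sel, if_pos (by rw [Finset.card_pair h])]
  rw [key hb.ne, key hbj, key hlt.ne]
  exact duadSel_star S i j hc hlt hb

/-- The defining relation at a parent. -/
theorem parent_good {x : Finset (Fin n)} (hx : Pt n r x) (h4 : 4 ≤ x.card) {t y : Finset (Fin n)}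
    (hp : parent r x = (t, y)) (hy : y = op t x) (ht : Pt n r t) (h1 : N r t < N r x) (h2 : N r y < N r x) :
    Good S.sel t x := by
  have hg : Good S.sel t y := by
    unfold Good
    rw [hy, op_op ht.2.1]
    conv_rhs => rw [sel, if_neg (by omega), hp, if_pos ⟨h1, h2⟩, hy]
  have := line (sel_mem hd S) ht hg
  rwa [hy, op_op ht.2.1] at this

/-- Every lowering pair is closed. -/
theorem lower_good {x : Finset (Fin n)} (hx : Pt n r x) (h4 : 4 ≤ x.card) {i j : Fin n}
    (h : Lower r x i j) : Good S.sel {i, j} x := by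
  have hσ := sel_mem hd S
  induction hk : N r x using Nat.strong_induction_on generalizing x i j with
  | _ k ih =>
    have hex : ∃ p : Fin n × Fin n, Lower r x p.1 p.2 := ⟨(i, j), h⟩
    have h0 := hex.choose_spec
    set i0 := hex.choose.1 with hi0
    set j0 := hex.choose.2 with hj0
    have hd0 := hd.pt_pair h0.1 h0.ne
    have hg0 : Good S.sel {i0, j0} x := by
      refine parent_good hd S hx h4 (by rw [parent, dif_pos hex]) rfl hd0 (N_lt_of_rk ?_) h0.N_op
      rw [rk_of_not_top (by rintro ⟨k, -⟩; rw [Finset.card_pair h0.ne] at k; omega), Finset.card_pair h0.ne]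
      unfold rk
      split_ifs <;> omega
    obtain ⟨hc, hij, hi, hj⟩ := id h
    obtain ⟨hc0, hij0, hi0', hj0'⟩ := id h0
    by_cases he : j = j0
    · obtain rfl : i = i0 := Fin.ext (by subst he; omega)
      rwa [he]
    have e1 : i ≠ i0 := fun e => he (Fin.ext (by subst e; omega))
    have e2 : i ≠ j0 := fun e => hi (e ▸ hj0')
    have e3 : j ≠ i0 := fun e => hi0' (e ▸ hj)
    have hev : Even (({i0, j0} : Finset (Fin n)) ∩ {i, j}).card := by
      rw [← Nat.not_odd_iff_even, pair_inter_odd h0.ne]
      simp [Ne.symm e1, Ne.symm e2, Ne.symm e3, Ne.symm he]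
    have hdP := hd.pt_pair hc h.ne
    have hy0 := pt_op hd0 hx
    have hw := pt_op hdP hx
    have hl1 : Lower r (op {i0, j0} x) i j := by
      refine ⟨hc, hij, ?_, ?_⟩ <;> rw [h0.op_eq] <;> simp [hi, hj, e1, e3, he]
    have hl2 : Lower r (op {i, j} x) i0 j0 := by
      refine ⟨hc0, hij0, ?_, ?_⟩ <;> rw [h.op_eq] <;> simp [hi0', hj0', Ne.symm e1, Ne.symm e2, Ne.symm he]
    have g1 := ih _ (hk ▸ h0.N_op) hy0 (h0.card_op.symm ▸ h4) hl1 rfl
    have g2 := line hσ hd0 (ih _ (hk ▸ h.N_op) hw (h.card_op.symm ▸ h4) hl2 rfl)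
    have eq2 : op {i, j} (op {i0, j0} x) = op {i0, j0} (op {i, j} x) := by
      have := op_equivariant hd0.2.1 ({i, j} : Finset (Fin n)) x
      rwa [op_even hev] at this
    have := (map_iff hσ hd0 (good_of_even hσ hd0 hdP hev) (line hσ hd0 hg0) (eq2 ▸ g2)).1 g1
    rwa [op_even hev, op_op hd0.2.1] at this

/-- The duads are closed with everything. -/
theorem duads : ∀ i j : Fin n, SameCol r i j → i ≠ j → GoodAll (P := Pt n r) S.sel {i, j} := by
  have hσ := sel_mem hd S
  have hP := fun i j hc (hne : i ≠ j) => hd.pt_pair (i := i) (j := j) hc hne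
  refine goodAll_duads hσ fun i j hc hij => ?_
  have hne : i ≠ j := Fin.ne_of_val_ne (by omega)
  refine ⟨hP i j hc hne, fun y hy => ?_⟩
  by_cases h2 : y.card = 2
  · obtain ⟨k, l, hkl, hne', rfl⟩ := hd.two_cases hy h2
    exact duad_duad hσ hP (sel_star hd S) hc hkl hne hne'
  have h4 : 4 ≤ y.card := by
    have := Finset.card_pos.2 hy.1; have := Nat.even_iff.1 hy.2.1; omega
  by_cases ho : Odd (({i, j} : Finset (Fin n)) ∩ y).card
  swap
  · exact good_of_even hσ (hP i j hc hne) hy (Nat.not_odd_iff_even.1 ho)
  have hiff := (pair_inter_odd hne).1 ho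
  by_cases hj : j ∈ y
  · exact lower_good hd S hy h4 ⟨hc, hij, fun k => hiff ⟨fun _ => hj, fun _ => k⟩, hj⟩
  · have hi : i ∈ y := by_contra fun k => hiff ⟨fun a => absurd a k, fun a => absurd a hj⟩
    have hl : Lower r (op {i, j} y) i j := by
      refine ⟨hc, hij, ?_, ?_⟩ <;>
        simp [op_odd ho, Finset.mem_symmDiff, hi, hj, hne, hne.symm]
    have hc' : (op {i, j} y).card = y.card := by
      rw [op_pair hne, Finset.card_image_of_injective _ (Equiv.injective _)]
    have := line hσ (hP i j hc hne) (lower_good hd S (pt_op (hP i j hc hne) hy) (hc'.symm ▸ h4) hl)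
    rwa [op_op (hP i j hc hne).2.1] at this

/-- Closedness is carried to pairs with the same counts. -/
theorem transfer {t z t' z' : Finset (Fin n)} (ht : Pt n r t) (hz : Pt n r z) (h1 : t.card = t'.card)
    (h2 : z.card = z'.card) (h3 : (t ∩ z).card = (t' ∩ z').card) (h4 : (upp r t).card = (upp r t').card)
    (h5 : (upp r z).card = (upp r z').card) (h6 : (upp r (t ∩ z)).card = (upp r (t' ∩ z')).card)
    (h : Good S.sel t z) : Good S.sel t' z' := by
  obtain ⟨π, hπ, rfl, rfl⟩ := exists_colPerm r h1 h2 h3 h4 h5 h6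
  exact good_image (sel_mem hd S) (duads hd S) π hπ ht hz h

theorem exc_good {x t : Finset (Fin n)} (hx : Pt n r x) (h : Top r x) (ht : ExcT r x t) :
    Good S.sel t x := by
  obtain ⟨x', hc, hu, hl⟩ := exists_minimal r x
  have hx' : Pt n r x' := pt_congr hc.symm hu.symm hx
  have htop : Top r x' := ⟨hc.trans h.1, hu.trans h.2⟩
  have h0 := Classical.epsilon_spec (hd.exists_excT htop.1 htop.2)
  set t0 := Classical.epsilon (ExcT r x') with ht0
  have hg : Good S.sel t0 x' := by
    refine parent_good hd S hx' (hc.trans h.1).ge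
      (by rw [parent, dif_neg (fun ⟨p, hp⟩ => hl _ _ hp), if_pos htop]) rfl h0.1.1 ?_ ?_ <;> apply N_lt_of_rk
    · rw [rk_of_top htop, rk_of_not_top h0.1.not_top, h0.1.2.1]; omega
    · have ho : Odd (t0 ∩ x').card := by rw [h0.2.1]; decide
      have hcd := card_symmDiff t0 x'
      rw [h0.2.1, h0.1.2.1, htop.1] at hcd
      rw [rk_of_top htop, op_odd ho, rk_of_not_top (by rintro ⟨k, -⟩; omega)]
      omega
  exact transfer hd S h0.1.1 hx' (h0.1.2.1.trans ht.1.2.1.symm) hc (h0.2.1.trans ht.2.1.symm)
    (hd.isT_upp_eq h0.1 ht.1) hu (h0.2.2.trans ht.2.2.symm) hg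

theorem seed_good {z t : Finset (Fin n)} (hz : Pt n r z) (h6 : 6 ≤ z.card) (ht : SeedT r z t)
    (hnt : ¬ Top r (op t z)) : Good S.sel t z := by
  obtain ⟨z', hc, hu, hl⟩ := exists_minimal r z
  have hz' : Pt n r z' := pt_congr hc.symm hu.symm hz
  have h6' : 6 ≤ z'.card := hc.symm ▸ h6
  have h0 := Classical.epsilon_spec (hd.exists_seedT hz' h6')
  set t0 := Classical.epsilon (SeedT r z') with ht0
  have hA : HasA r z' ↔ HasA r z := by unfold HasA; rw [hc, hu]
  have he : (upp r (t0 ∩ z')).card = (upp r (t ∩ z)).card := by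
    by_cases k : HasA r z
    · rw [h0.2.2.1 (hA.2 k), ht.2.2.1 k]
    · rw [h0.2.2.2 (mt hA.1 k), ht.2.2.2 k]
  have hut := hd.isT_upp_eq h0.1 ht.1
  have hg : Good S.sel t0 z' := by
    have hnt' : ¬ Top r z' := by rintro ⟨k, -⟩; omega
    refine parent_good hd S hz' (by omega)
      (by rw [parent, dif_neg (fun ⟨p, hp⟩ => hl _ _ hp), if_neg hnt', if_pos h6']) rfl h0.1.1 ?_ ?_ <;>
      apply N_lt_of_rk
    · rw [rk_of_not_top h0.1.not_top, rk_of_not_top hnt', h0.1.2.1]; omega
    · have o1 : Odd (t ∩ z).card := by rw [ht.2.1]; decide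
      have o2 : Odd (t0 ∩ z').card := by rw [h0.2.1]; decide
      have c1 := card_symmDiff t z
      have c2 := card_symmDiff t0 z'
      have u1 := card_upp_symmDiff r t z
      have u2 := card_upp_symmDiff r t0 z'
      rw [op_odd o1] at hnt
      rw [ht.2.1, ht.1.2.1] at c1
      rw [h0.2.1, h0.1.2.1] at c2
      rw [op_odd o2, rk_of_not_top hnt', rk_of_not_top]
      · omega
      · rintro ⟨k1, k2⟩
        exact hnt ⟨by omega, by omega⟩
  exact transfer hd S h0.1.1 hz' (h0.1.2.1.trans ht.1.2.1.symm) hc (h0.2.1.trans ht.2.1.symm) hut hu he hg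

/-- A generating point and a point meeting it once, with the seed condition. -/
theorem edge_seed {t x : Finset (Fin n)} (ht : IsT r t) (hx : Pt n r x) (h4 : 4 ≤ x.card) (hn : ¬ Top r x)
    (h1 : (t ∩ x).card = 1) (hA : HasA r (t ∆ x) → (upp r t).card = 1 ∧ (upp r (t ∩ x)).card = 0)
    (hB : ¬ HasA r (t ∆ x) → (upp r t).card = (upp r (t ∩ x)).card) : Good S.sel t x := by
  have ho : Odd (t ∩ x).card := by rw [h1]; decide
  have hz : Pt n r (t ∆ x) := op_odd ho ▸ pt_op ht.1 hx
  have hc := card_symmDiff t x
  have e : op t (t ∆ x) = x := by rw [← op_odd ho, op_op ht.1.2.1]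
  have hi : t ∩ (t ∆ x) = t \ x := by ext i; simp [Finset.mem_symmDiff]; tauto
  have hs := Finset.card_sdiff_add_card_inter t x
  have hsu : (upp r (t \ x)).card + (upp r (t ∩ x)).card = (upp r t).card := by
    rw [← Finset.card_union_of_disjoint, upp, upp, upp, ← Finset.filter_union, Finset.sdiff_union_inter]
    exact Finset.disjoint_filter_filter (Finset.disjoint_sdiff_inter t x)
  have h6 : 6 ≤ (t ∆ x).card := by rw [h1, ht.2.1] at hc; omega
  have hsd : SeedT r (t ∆ x) t := by
    refine ⟨ht, ?_, fun k => ?_, fun k => ?_⟩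
    · rw [hi]; rw [h1, ht.2.1] at hs; omega
    · have := hA k; rw [hi]; omega
    · have := hB k; rw [hi]; omega
  have := line (sel_mem hd S) ht.1 (seed_good hd S hz h6 hsd (by rwa [e]))
  rwa [e] at this

omit hd in
theorem compose {σ : Finset (Fin n) → G} (hσ : S.Sel σ) {t t1 x0 : Finset (Fin n)} (ht : Pt n r t)
    (h1 : Good σ t t1) (h2 : Good σ t x0) (h3 : Good σ t1 x0) (h4 : Good σ (op t t1) (op t x0)) :
    Good σ t (op t1 x0) := by
  unfold Good at *
  have hs := S.sq t ht _ (hσ t ht)
  rw [← op_equivariant ht.2.1 t1 x0, ← h4, ← h1, ← h2, ← h3]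
  simp only [mul_assoc]
  simp only [← mul_assoc (σ t) (σ t), hs, one_mul]

/-- The lower point lies in the overlap and the upper one outside. -/
theorem edge_low {t x : Finset (Fin n)} (ht : IsT r t) (hx : Pt n r x) (h4 : 4 ≤ x.card) (hn : ¬ Top r x)
    (h1 : (t ∩ x).card = 1) (hu : (upp r t).card = 1) (he : (upp r (t ∩ x)).card = 0) :
    Good S.sel t x := by
  refine edge_seed hd S ht hx h4 hn h1 (fun _ => ⟨hu, he⟩) fun k => absurd ?_ k
  have h2 := card_upp_symmDiff r t x
  have h3 := card_low_add_upp r (t ∆ x)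
  refine ⟨by omega, ?_⟩
  have hlt : (low r (t ∆ x)).card < r := by
    obtain ⟨p, hp⟩ := Finset.card_eq_one.1 h1
    have hp' : p ∈ t ∩ x := hp ▸ Finset.mem_singleton_self p
    have hpl : p.1 < r := by
      by_contra k'
      have : p ∈ upp r (t ∩ x) := mem_upp.2 ⟨hp', not_lt.1 k'⟩
      rw [Finset.card_eq_zero.1 he] at this
      simp at this
    refine lt_of_lt_of_eq (Finset.card_lt_card (Finset.ssubset_iff_subset_ne.2 ⟨?_, fun e => ?_⟩))
      (card_low_univ hd.le)
    · exact Finset.filter_subset_filter _ (Finset.subset_univ _)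
    · have : p ∈ low r (t ∆ x) := e ▸ mem_low.2 ⟨Finset.mem_univ p, hpl⟩
      simp only [Finset.mem_inter] at hp'
      simp [mem_low, Finset.mem_symmDiff, hp'.1, hp'.2] at this
  omega

/-- A generating point and a point meeting it once. -/
theorem edge {t x : Finset (Fin n)} (ht : IsT r t) (hx : Pt n r x) (h4 : 4 ≤ x.card)
    (h1 : (t ∩ x).card = 1) : Good S.sel t x := by
  have hσ := sel_mem hd S
  induction hk : x.card using Nat.strong_induction_on generalizing t x with
  | _ k ih =>
    have hle : (upp r (t ∩ x)).card ≤ (upp r t).card := Finset.card_le_card (upp_mono Finset.inter_subset_left)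
    by_cases htop : Top r x
    · refine exc_good hd S hx htop ⟨ht, h1, ?_⟩
      rcases hd.isT_upp ht with ⟨hr, -⟩ | ⟨-, h⟩
      · have h0 := hd.upp_zero hr x
        rw [htop.2] at h0
        omega
      · rw [Finset.inter_comm, upp_full hd htop.2, h]
    by_cases he : (upp r (t ∩ x)).card = 0 ∧ (upp r t).card = 1
    · exact edge_low hd S ht hx h4 htop h1 he.2 he.1
    have hu1 := ht.2.2
    have heq : (upp r t).card = (upp r (t ∩ x)).card := by
      rcases Nat.lt_or_ge (upp r (t ∩ x)).card (upp r t).card with h | h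
      · exact absurd ⟨by omega, by omega⟩ he
      · omega
    by_cases hA : HasA r (t ∆ x)
    swap
    · exact edge_seed hd S ht hx h4 htop h1 (fun k => absurd k hA) fun _ => heq
    -- the route
    have hzu := card_upp_symmDiff r t x
    have hrn : r < n := by
      by_contra k
      have := hd.le
      have := hd.upp_zero (by omega) (t ∆ x)
      have := hA.1
      omega
    have hut : (upp r t).card = 1 := by
      rcases hd.isT_upp ht with h | h <;> omega
    have hux : 2 ≤ (upp r x).card := by have := hA.1; omega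
    have h6 : 6 ≤ x.card := by
      by_contra k
      have hx4 : x.card = 4 := by have := Nat.even_iff.1 hx.2.1; omega
      rcases hd.four_cases hx hx4 with h | h
      · have := h.2.2; omega
      · exact htop ⟨hx4, h.2⟩
    obtain ⟨c, hc⟩ := Finset.card_eq_one.1 h1
    have hcm : c ∈ t ∩ x := hc ▸ Finset.mem_singleton_self c
    have hcu : r ≤ c.1 := by
      by_contra k
      have : upp r (t ∩ x) = ∅ := by
        rw [hc, upp, Finset.filter_singleton, if_neg k]
      rw [this, Finset.card_empty] at heq
      omega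
    simp only [Finset.mem_inter] at hcm
    have hbeq : ∀ i, i ∈ t → i ∈ x → i = c := fun i a b =>
      Finset.mem_singleton.1 (hc ▸ Finset.mem_inter.2 ⟨a, b⟩)
    obtain ⟨q, hq⟩ : (low r (Finset.univ : Finset (Fin n)) \ (t ∆ x)).Nonempty := by
      rw [← Finset.card_pos]
      have h' := Finset.card_sdiff_add_card_inter (low r (Finset.univ : Finset (Fin n))) (t ∆ x)
      have h'' : low r (Finset.univ : Finset (Fin n)) ∩ (t ∆ x) = low r (t ∆ x) := by
        ext; simp [mem_low]; tauto
      rw [h'', card_low_univ hd.le] at h'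
      have := card_low_add_upp r (t ∆ x)
      have := hA.2
      omega
    simp only [Finset.mem_sdiff, mem_low, Finset.mem_univ, true_and, Finset.mem_symmDiff] at hq
    have hqt : q ∉ t := fun a => by
      by_cases b : q ∈ x
      · have := hq.1; rw [hbeq q a b] at this; omega
      · exact hq.2 (Or.inl ⟨a, b⟩)
    have hqx : q ∉ x := fun b => hq.2 (Or.inr ⟨b, hqt⟩)
    obtain ⟨U, hUx, hU⟩ := Finset.exists_subset_card_eq (show 2 ≤ (low r x).card by
      have := card_low_add_upp r x; have := hd.upp_le_three x; omega)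
    have hU' : ∀ i ∈ U, i ∈ x ∧ i.1 < r := fun i hi => mem_low.1 (hUx hi)
    have hUt : ∀ i ∈ U, i ∉ t := fun i hi a => by
      have := hU' i hi; rw [hbeq i a this.1] at this; omega
    have hqU : q ∉ U := fun a => hqx (hU' q a).1
    have hUq : ∀ i ∈ insert q U, i.1 < r := by
      intro i hi; rcases Finset.mem_insert.1 hi with rfl | a; exacts [hq.1, (hU' i a).2]
    have hUq3 : (insert q U).card = 3 := by rw [Finset.card_insert_of_notMem hqU, hU]
    have hcq : c ∉ insert q U := fun a => by have := hUq c a; omega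
    have ht1 : IsT r (insert c (insert q U)) := (hd.isT_insert hUq3 hUq hcq fun _ => hcu).1
    set t1 := insert c (insert q U) with ht1def
    have i1 : t1 ∩ x = insert c U := by
      ext i; simp only [ht1def, Finset.mem_inter, Finset.mem_insert]; grind
    have o1 : Odd (t1 ∩ x).card := by
      rw [i1, Finset.card_insert_of_notMem fun a => hcq (Finset.mem_insert_of_mem a), hU]; decide
    set x0 := t1 ∆ x with hx0def
    have hx0 : Pt n r x0 := by rw [hx0def, ← op_odd o1]; exact pt_op ht1.1 hx
    have ex : op t1 x0 = x := by rw [hx0def, ← op_odd o1, op_op ht1.1.2.1]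
    have mem0 : ∀ i, i ∈ x0 ↔ (i = q ∨ (i ∈ x ∧ i ≠ c ∧ i ∉ U)) := by
      intro i; simp only [hx0def, ht1def, Finset.mem_symmDiff, Finset.mem_insert]; grind
    have c0 : x0.card + 2 = x.card := by
      have := card_symmDiff t1 x
      rw [i1, Finset.card_insert_of_notMem fun a => hcq (Finset.mem_insert_of_mem a), hU, ht1.2.1] at this
      rw [hx0def]
      omega
    have u0 : (upp r x0).card + 1 = (upp r x).card := by
      have h' := card_upp_symmDiff r t1 x
      have hb := hd.isT_upp_eq ht1 ht
      have : upp r (t1 ∩ x) = {c} := by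
        ext i; simp only [i1, mem_upp, Finset.mem_insert, Finset.mem_singleton]; grind
      rw [this, Finset.card_singleton] at h'
      rw [hx0def]
      omega
    have n0 : ¬ Top r x0 := by
      rintro ⟨-, a⟩
      have := hd.upp_le_three x
      omega
    have g10 : Good S.sel t1 x0 := by
      have e' : t1 ∩ x0 = {q} := by
        ext i; simp only [Finset.mem_inter, mem0, ht1def, Finset.mem_insert, Finset.mem_singleton]; grind
      refine edge_low hd S ht1 hx0 (by omega) n0 (by rw [e']; rfl) (hd.isT_upp_eq ht1 ht ▸ hut) ?_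
      rw [e', upp, Finset.filter_singleton, if_neg (by omega)]; rfl
    -- another upper point
    obtain ⟨d, hd'⟩ := Finset.card_pos.1 (show 0 < (upp r x0).card by omega)
    rw [mem_upp, mem0] at hd'
    obtain ⟨hdx, hdu⟩ := hd'
    have hdx' : d ∈ x ∧ d ≠ c ∧ d ∉ U := hdx.resolve_left fun e => by rw [e] at hdu; omega
    have hdt : d ∉ t := fun a => hdx'.2.1 (hbeq d a hdx'.1)
    have hU3 : (t.erase c).card = 3 := by rw [Finset.card_erase_of_mem hcm.1, ht.2.1]
    have hlow : ∀ i ∈ t.erase c, i.1 < r := by
      intro i hi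
      by_contra a
      obtain ⟨hne, hit⟩ := Finset.mem_erase.1 hi
      obtain ⟨w, hw⟩ := Finset.card_eq_one.1 hut
      have a1 : i ∈ upp r t := mem_upp.2 ⟨hit, not_lt.1 a⟩
      have a2 : c ∈ upp r t := mem_upp.2 ⟨hcm.1, hcu⟩
      rw [hw, Finset.mem_singleton] at a1 a2
      exact hne (a1.trans a2.symm)
    have ht1' : IsT r (insert d (t.erase c)) :=
      (hd.isT_insert hU3 hlow (fun a => hdt (Finset.mem_of_mem_erase a)) fun _ => hdu).1
    have ht2' : IsT r (insert d (insert q U)) :=
      (hd.isT_insert hUq3 hUq (fun a => by have := hUq d a; omega) fun _ => hdu).1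
    set a1 := insert d (t.erase c) with ha1
    set a2 := insert d (insert q U) with ha2
    have dlow : q ≠ d := fun e => by rw [← e] at hdu; omega
    have tcap : t ∩ t1 = {c} := by
      ext i; simp only [ht1def, Finset.mem_inter, Finset.mem_insert, Finset.mem_singleton]; grind
    have acap : a1 ∩ a2 = {d} := by
      ext i
      simp only [ha1, ha2, Finset.mem_inter, Finset.mem_insert, Finset.mem_erase, Finset.mem_singleton]; grind
    have tt : ∀ {a b : Finset (Fin n)}, IsT r a → IsT r b → (a ∩ b).card = 1 →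
        (upp r (a ∩ b)).card = 1 → Good S.sel a b := by
      intro a b ha hb hab heb
      have h2 := card_upp_symmDiff r a b
      have := ha.2.2; have := hb.2.2
      refine edge_seed hd S ha hb.1 hb.2.1.ge hb.not_top hab (fun k => absurd k.1 (by omega)) fun _ => ?_
      have := Finset.card_le_card (upp_mono (r := r) (Finset.inter_subset_left : a ∩ b ⊆ a))
      omega
    have gtt : Good S.sel t t1 := tt ht ht1 (by rw [tcap]; rfl)
      (by rw [tcap, upp, Finset.filter_singleton, if_pos hcu]; rfl)
    have gaa : Good S.sel a1 a2 := tt ht1' ht2' (by rw [acap]; rfl)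
      (by rw [acap, upp, Finset.filter_singleton, if_pos hdu]; rfl)
    have cap0 : a1 ∩ x0 = {d} := by
      ext i
      simp only [ha1, Finset.mem_inter, mem0, Finset.mem_insert, Finset.mem_erase, Finset.mem_singleton]; grind
    have g0 : Good S.sel a1 x0 := ih _ (by omega) ht1' hx0 (by omega) (by rw [cap0]; rfl) rfl
    have o0 : Odd (a1 ∩ x0).card := by rw [cap0, Finset.card_singleton]; decide
    set x1 := a1 ∆ x0 with hx1def
    have hx1 : Pt n r x1 := by rw [hx1def, ← op_odd o0]; exact pt_op ht1'.1 hx0
    have c1 : x1.card = x.card := by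
      have := card_symmDiff a1 x0
      rw [cap0, Finset.card_singleton, ht1'.2.1] at this
      rw [hx1def]
      omega
    have cap1 : a2 ∩ x1 = {q} := by
      ext i
      simp only [hx1def, ha1, ha2, Finset.mem_inter, Finset.mem_symmDiff, mem0, Finset.mem_insert,
        Finset.mem_erase, Finset.mem_singleton]
      grind
    have g21 : Good S.sel a2 x1 := by
      refine edge_low hd S ht2' hx1 (by omega) (by rintro ⟨a, -⟩; omega) (by rw [cap1]; rfl)
        (hd.isT_upp_eq ht2' ht ▸ hut) ?_
      rw [cap1, upp, Finset.filter_singleton, if_neg (by omega)]; rfl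
    have o21 : Odd (a2 ∩ x1).card := by rw [cap1, Finset.card_singleton]; decide
    have ev3 : Even (a1 ∩ (a2 ∆ x1)).card := by
      rw [← bp_eq_zero, bp_symmDiff_right, hx1def, bp_symmDiff_right, bp_self ht1'.1.2.1,
        bp_eq_one.2 (show Odd (a1 ∩ a2).card by rw [acap, Finset.card_singleton]; decide), bp_eq_one.2 o0]
      decide
    have gsx : Good S.sel (op a1 a2) x0 := by
      have h' := (map_iff hσ ht1'.1 gaa (show Good S.sel a1 x1 by rw [hx1def, ← op_odd o0]; exact line hσ ht1'.1 g0)
        (by rw [op_odd o21]; exact good_of_even hσ ht1'.1 (op_odd o21 ▸ pt_op ht2'.1 hx1) ev3)).1 g21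
      rwa [hx1def, ← op_odd o0, op_op ht1'.1.2.1] at h'
    have ev0 : Even (t ∩ x0).card := by
      have : t ∩ x0 = ∅ := by
        ext i; simp only [Finset.mem_inter, mem0, Finset.notMem_empty, iff_false]; grind
      rw [this]; exact Even.zero
    have es : op t t1 = op a1 a2 := by
      rw [op_odd (show Odd (t ∩ t1).card by rw [tcap, Finset.card_singleton]; decide),
        op_odd (show Odd (a1 ∩ a2).card by rw [acap, Finset.card_singleton]; decide)]
      ext i
      simp only [ha1, ha2, ht1def, Finset.mem_symmDiff, Finset.mem_insert, Finset.mem_erase]; grind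
    have := compose S hσ ht.1 gtt (good_of_even hσ ht.1 hx0 ev0) g10 (by rw [es, op_even ev0]; exact gsx)
    rwa [ex] at this

theorem t_all {t : Finset (Fin n)} (ht : IsT r t) : GoodAll (P := Pt n r) S.sel t := by
  have hσ := sel_mem hd S
  refine ⟨ht.1, fun y hy => ?_⟩
  have hle := Finset.card_le_card (Finset.inter_subset_left : t ∩ y ⊆ t)
  have hly := Finset.card_le_card (Finset.inter_subset_right : t ∩ y ⊆ y)
  have two : ∀ y, Pt n r y → y.card = 2 → Good S.sel t y := fun y hy h2 => by
    obtain ⟨i, j, hc, hne, rfl⟩ := hd.two_cases hy h2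
    exact symm hσ hy ht.1 ((duads hd S i j hc hne).2 t ht.1)
  by_cases h2 : y.card = 2
  · exact two y hy h2
  have h4 : 4 ≤ y.card := by
    have := Finset.card_pos.2 hy.1; have := Nat.even_iff.1 hy.2.1; omega
  by_cases ho : Odd (t ∩ y).card
  swap
  · exact good_of_even hσ ht.1 hy (Nat.not_odd_iff_even.1 ho)
  rw [ht.2.1] at hle
  have ho' := Nat.odd_iff.1 ho
  rcases (show (t ∩ y).card = 1 ∨ (t ∩ y).card = 3 by omega) with h | h
  · exact edge hd S ht hy h4 h
  have hz := pt_op ht.1 hy
  have hc := card_symmDiff t y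
  rw [h, ht.2.1] at hc
  suffices Good S.sel t (op t y) by
    have := line hσ ht.1 this
    rwa [op_op ht.1.2.1] at this
  by_cases hy4 : y.card = 4
  · exact two _ hz (by rw [op_odd ho]; omega)
  · refine edge hd S ht hz (by rw [op_odd ho]; have := Nat.even_iff.1 hy.2.1; omega) ?_
    rw [op_odd ho, show t ∩ (t ∆ y) = t \ y by ext; simp [Finset.mem_symmDiff]; tauto]
    have := Finset.card_sdiff_add_card_inter t y
    rw [h, ht.2.1] at this
    omega

theorem top_small {x : Finset (Fin n)} (hx : Pt n r x) (h : Top r x) (h4 : r = 4) :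
    GoodAll (P := Pt n r) S.sel x := by
  have hσ := sel_mem hd S
  have hn7 : n = 7 := by
    have := hd.seven; have := hd.three; have := Nat.odd_iff.1 hd.odd; omega
  refine ⟨hx, fun y hy => ?_⟩
  have two : ∀ y, Pt n r y → y.card = 2 → Good S.sel x y := fun y hy h2 => by
    obtain ⟨i, j, hc, hne, rfl⟩ := hd.two_cases hy h2
    exact symm hσ hy hx ((duads hd S i j hc hne).2 x hx)
  have four : ∀ y, IsT r y → Good S.sel x y := fun y hy => symm hσ hy.1 hx ((t_all hd S hy).2 x hx)
  by_cases ho : Odd (x ∩ y).card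
  swap
  · exact good_of_even hσ hx hy (Nat.not_odd_iff_even.1 ho)
  by_cases h2 : y.card = 2
  · exact two y hy h2
  have hlt := hd.card_lt hy
  have he := Nat.even_iff.1 hy.2.1
  have hne := Finset.card_pos.2 hy.1
  have ho' := Nat.odd_iff.1 ho
  have hxy := Finset.card_le_card (Finset.inter_subset_left : x ∩ y ⊆ x)
  rw [h.1] at hxy
  have hu := upp_full hd h.2 y
  have hle := upp_le r (x ∩ y)
  rw [hu] at hle
  have hc := card_symmDiff x y
  have hcu := card_upp_symmDiff r x y
  rw [h.1] at hc
  rw [hu, h.2] at hcu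
  have hz := pt_op hx hy
  have hw : Good S.sel x (op x y) → Good S.sel x y := fun k => by
    have := line hσ hx k
    rwa [op_op hx.2.1] at this
  rcases (show y.card = 4 ∨ y.card = 6 by omega) with hy4 | hy6
  · rcases hd.four_cases hy hy4 with k | ⟨-, k⟩
    · exact four y k
    · refine hw (two _ hz ?_)
      rw [op_odd ho]; omega
  · refine hw (four _ ⟨hz, ?_, ?_⟩) <;> rw [op_odd ho]
    · have hq := Nat.odd_iff.1 (hy.2.2.resolve_left (by omega))
      have := card_low_add_upp r y
      have : (low r y).card ≤ r := (Finset.card_le_card (Finset.filter_subset_filter _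
        (Finset.subset_univ y))).trans_eq (card_low_univ hd.le)
      omega
    · have hq := Nat.odd_iff.1 (hy.2.2.resolve_left (by omega))
      have := hd.upp_le_three y
      have := card_low_add_upp r y
      have : (low r y).card ≤ r := (Finset.card_le_card (Finset.filter_subset_filter _
        (Finset.subset_univ y))).trans_eq (card_low_univ hd.le)
      omega

theorem big_all {x : Finset (Fin n)} (hx : Pt n r x) (h6 : 6 ≤ x.card) :
    GoodAll (P := Pt n r) S.sel x := by
  induction hk : x.card using Nat.strong_induction_on generalizing x with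
  | _ k ih =>
    obtain ⟨t, ht⟩ := hd.exists_seedT hx h6
    have ho : Odd (t ∩ x).card := by rw [ht.2.1]; decide
    have hy := pt_op ht.1.1 hx
    have hc := card_symmDiff t x
    rw [ht.2.1, ht.1.2.1] at hc
    have hcy : (op t x).card + 2 = x.card := by rw [op_odd ho]; omega
    suffices GoodAll (P := Pt n r) S.sel (op t x) by
      have := goodAll_op (sel_mem hd S) (t_all hd S ht.1) this
      rwa [op_op ht.1.1.2.1] at this
    by_cases h8 : 6 ≤ (op t x).card
    · exact ih (op t x).card (by omega) hy h8 rfl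
    have hy4 : (op t x).card = 4 := by have := Nat.even_iff.1 hy.2.1; omega
    rcases hd.four_cases hy hy4 with h | ⟨hrn, h⟩
    · exact t_all hd S h
    refine top_small hd S hy ⟨hy4, h⟩ ?_
    rw [op_odd ho] at h
    have hu := card_upp_symmDiff r t x
    have := ht.1.2.2
    have := hd.upp_le_three x
    by_cases hA : HasA r x
    · have := ht.2.2.1 hA; omega
    · have := ht.2.2.2 hA
      have := hd.four_le
      unfold HasA at hA
      omega

theorem good_all {x : Finset (Fin n)} (hx : Pt n r x) : GoodAll (P := Pt n r) S.sel x := by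
  have := Finset.card_pos.2 hx.1
  have := Nat.even_iff.1 hx.2.1
  rcases (show x.card = 2 ∨ x.card = 4 ∨ 6 ≤ x.card by omega) with h | h | h
  · obtain ⟨i, j, hc, hne, rfl⟩ := hd.two_cases hx h
    exact duads hd S i j hc hne
  · rcases hd.four_cases hx h with k | ⟨-, k⟩
    · exact t_all hd S k
    · obtain ⟨t, ht⟩ := hd.exists_excT h k
      have ho : Odd (t ∩ x).card := by rw [ht.2.1]; decide
      have h' := goodAll_op (sel_mem hd S) (t_all hd S ht.1) (big_all hd S (pt_op ht.1.1 hx) (by
        have := card_symmDiff t x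
        rw [ht.2.1, ht.1.2.1, h] at this
        rw [op_odd ho]; omega))
      rwa [op_op ht.1.1.2.1] at h'
  · exact big_all hd S hx h

/-- A selection closed at all pairs. -/
theorem exists_closed : ∃ σ, S.Sel σ ∧ ∀ x, Pt n r x → ∀ y, Pt n r y → Good σ x y :=
  ⟨S.sel, sel_mem hd S, fun _ hx => (good_all hd S hx).2⟩

end Fibres

end CfsgLib.TwoRadGen.Binary
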